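/-
Root elements of a simply laced Chevalley group as elements of the group, with their relations read off
from packed tables.
-/
import Mathlib
import Cfsg.Agent.Lib.Chev.TableLaced
import Cfsg.Agent.Lib.Chev.Bruhat
import Cfsg.Agent.Lib.Chev.Weyl
import Cfsg.Agent.Lib.Chev.Struct

set_option autoImplicit false

namespace CfsgLib.Known.LieDegree

open Cfsg.Lie CfsgLib.Chev CfsgLib.Chev.Table

universe v

/-- A simply laced datum with packed tables. -/
structure LCtx (D : ChevalleyDatum) (T : Tab) : Prop where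
  facts : Facts D T.co
  comm : CommF.{v} D
  arrays : T.chkArrays D = true
  chain : T.chkChain D = true
  pairs : T.chkPairs = true
  single : ∀ r < D.nroots, ∀ s < D.nroots, T.ent r s ≠ 0 →
    T.gen r s = [(T.ent r s / 16, T.nn r s)] ∧ (T.nn r s = 1 ∨ T.nn r s = -1) ∧
      T.ent r (T.ent r s / 16) = 0

theorem lctx_of_tables {D : ChevalleyDatum} {T : Tab} {X : Aux} (hF : Facts D T.co)
    (hC : CommF.{v} D) (hA : T.chkArrays D = true) (hCh : T.chkChain D = true)
    (hP : T.chkPairs = true) (hR : T.chkRoots = true) (hX : T.LacedPairs X) : LCtx.{v} D T := by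
  refine ⟨hF, hC, hA, hCh, hP, fun r hr s hs h => ?_⟩
  rw [nroots_eq hA] at hr hs
  obtain ⟨h1, hn, -⟩ := pair_ne hX hr hs h
  have hk := (ent_spec hA hP ((nroots_eq hA).symm ▸ hr) ((nroots_eq hA).symm ▸ hs) h).1
  rw [nroots_eq hA] at hk
  have hp : T.pr r (T.ent r s / 16) = 1 := by
    rw [pr_step hA hP hR hr hs h, pr_self hR hr, h1]; norm_num
  have he : T.ent r (T.ent r s / 16) = 0 := ent_of_pr_ne hX hr hk (by omega)
  refine ⟨?_, ?_, he⟩
  · have hb : (T.ent r s == 0) = false := beq_eq_false_iff_ne.2 h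
    simp [Tab.gen, Tab.go, hb, he]
  · rw [hn, sgn]
    cases (X.sg r ^^ X.sg s ^^ X.sg (T.ent r s / 16) ^^ X.ee r s) <;> simp

/-- The root element `x_r(t)` as an element of the group. -/
noncomputable def X (D : ChevalleyDatum) {K : Type v} [Field K] (r : ℕ) (t : K) :
    ↥(D.group K) :=
  open Classical in if h : xU D r t ∈ D.group K then ⟨xU D r t, h⟩ else 1

namespace LCtx

variable {D : ChevalleyDatum} {T : Tab} (L : LCtx.{v} D T) {K : Type v} [Field K]
include L

theorem X_val {r : ℕ} (hr : r < D.nroots) (t : K) :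
    ((X D r t : ↥(D.group K)) : GL D.Idx K) = xU D r t := by
  rw [X, dif_pos (L.facts.xU_mem_group hr t)]

theorem X_add {r : ℕ} (hr : r < D.nroots) (t u : K) : X D r (t + u) = X D r t * X D r u :=
  Subtype.ext (by rw [Subgroup.coe_mul, L.X_val hr, L.X_val hr, L.X_val hr, L.facts.xU_add hr])

theorem X_zero {r : ℕ} (hr : r < D.nroots) : X D r (0 : K) = 1 :=
  Subtype.ext (by rw [L.X_val hr, L.facts.xU_zero hr, Subgroup.coe_one])

theorem X_inv {r : ℕ} (hr : r < D.nroots) (t : K) : (X D r t)⁻¹ = X D r (-t) :=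
  inv_eq_of_mul_eq_one_right (by rw [← L.X_add hr, add_neg_cancel, L.X_zero hr])

theorem X_eq_one {r : ℕ} (hr : r < D.nroots) {t : K} (h : X D r t = 1) : t = 0 := by
  refine L.facts.xU_eq_one hr ?_
  have := congrArg Subtype.val h
  rwa [L.X_val hr] at this

theorem tg_spec {r s k : ℕ} (hr : r < D.nroots) (hs : s < D.nroots) (h : T.tg r s = some k) :
    T.ent r s ≠ 0 ∧ T.ent r s / 16 = k ∧ k < D.nroots ∧ s ≠ r ∧ s ≠ T.neg r ∧
      T.tg s r = some k := by
  have h0 : T.ent r s ≠ 0 := fun e => by simp [Tab.tg, e] at h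
  have hb : (T.ent r s == 0) = false := beq_eq_false_iff_ne.2 h0
  have hk : T.ent r s / 16 = k := by simpa [Tab.tg, hb] using h
  obtain ⟨h1, -, -, -, h5, h6, h7, -⟩ := ent_spec L.arrays L.pairs hr hs h0
  exact ⟨h0, hk, hk ▸ h1, h5, h6, h7.trans h⟩

theorem ent_symm {r s : ℕ} (hr : r < D.nroots) (hs : s < D.nroots) (h : T.ent r s = 0) :
    T.ent s r = 0 := by
  by_contra h'
  have := (ent_spec L.arrays L.pairs hs hr h').2.2.2.2.2.2.1
  simp [Tab.tg, h, beq_eq_false_iff_ne.2 h'] at this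

theorem tg_none {r s : ℕ} (h : T.tg r s = none) : T.ent r s = 0 := by
  have _ := L
  by_contra h'
  simp [Tab.tg, beq_eq_false_iff_ne.2 h'] at h

theorem entry_nil {r s : ℕ} (hr : r < D.nroots) (hs : s < D.nroots) (h : T.ent r s = 0) :
    D.chainEntry r s = [] := by
  rw [chainEntry_eq L.arrays L.chain hr hs]
  simp [Tab.gen, Tab.go, h]

theorem terms_nil {r s : ℕ} (hr : r < D.nroots) (hs : s < D.nroots) (h : T.ent r s = 0) :
    D.commTerms r s = [] := by
  have e1 := L.entry_nil hr hs h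
  have e2 := L.entry_nil hs hr (L.ent_symm hr hs h)
  have a : ∀ i, D.chainRoot r s i = none := fun i => by simp [ChevalleyDatum.chainRoot, e1]
  have b : ∀ i, D.chainRoot s r i = none := fun i => by simp [ChevalleyDatum.chainRoot, e2]
  simp [ChevalleyDatum.commTerms, a, b]

theorem terms_one {r s k : ℕ} (hr : r < D.nroots) (hs : s < D.nroots) (h : T.tg r s = some k) :
    (T.nn r s = 1 ∨ T.nn r s = -1) ∧ D.commTerms r s = [(k, T.nn r s, 1, 1)] := by
  obtain ⟨h0, hk, hkn, -, -, h'⟩ := L.tg_spec hr hs h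
  obtain ⟨h0', hk', -⟩ := L.tg_spec hs hr h'
  obtain ⟨g1, c1, -⟩ := L.single r hr s hs h0
  obtain ⟨g2, -, -⟩ := L.single s hs r hr h0'
  have e1 : D.chainEntry r s = [(k, T.nn r s)] := by
    rw [chainEntry_eq L.arrays L.chain hr hs, g1, hk]
  have e2 : D.chainEntry s r = [(k, T.nn s r)] := by
    rw [chainEntry_eq L.arrays L.chain hs hr, g2, hk']
  refine ⟨c1, ?_⟩
  simp [ChevalleyDatum.commTerms, ChevalleyDatum.chainRoot, ChevalleyDatum.chainM, e1, e2]

theorem X_commute {r s : ℕ} (hr : r < D.nroots) (hs : s < D.nroots) (h : T.ent r s = 0)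
    (hn : s ≠ T.neg r) (t u : K) : Commute (X D r t) (X D s u) := by
  rcases eq_or_ne s r with rfl | hne
  · exact (L.X_add hr t u).symm.trans ((congrArg (X D s) (add_comm t u)).trans (L.X_add hr u t))
  refine Subtype.ext ?_
  rw [Subgroup.coe_mul, Subgroup.coe_mul, L.X_val hr, L.X_val hs]
  have := L.facts.xU_comm L.comm hr hs hne (by rwa [neg_eq L.arrays hr]) t u
  rw [this, cwR, L.terms_nil hr hs h, List.map_nil, wU, List.map_nil, List.prod_nil, mul_one]

theorem X_conj_same {r s : ℕ} (hr : r < D.nroots) (hs : s < D.nroots) (h : T.ent r s = 0)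
    (hn : s ≠ T.neg r) (t u : K) : X D r t * X D s u * (X D r t)⁻¹ = X D s u := by
  rw [(L.X_commute hr hs h hn t u).eq, mul_inv_cancel_right]

theorem X_conj {r s k : ℕ} (hr : r < D.nroots) (hs : s < D.nroots) (h : T.tg r s = some k) :
    ∃ c : K, (c = 1 ∨ c = -1) ∧ c = (T.nn r s : K) ∧ ∀ t u : K,
      X D r t * X D s u * (X D r t)⁻¹ = X D s u * X D k (c * t * u) := by
  obtain ⟨h0, hk, hkn, hne, hneg, -⟩ := L.tg_spec hr hs h
  obtain ⟨he, hT⟩ := L.terms_one hr hs h
  have hrk : T.ent r k = 0 := hk ▸ (L.single r hr s hs h0).2.2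
  have hkneg : k ≠ T.neg r := hk ▸ (ent_spec L.arrays L.pairs hr hs h0).2.2.1
  set e := T.nn r s with hedef
  refine ⟨(e : K), by rcases he with h | h <;> simp [h], rfl, fun t u => ?_⟩
  have hc := L.X_commute hr hkn hrk hkneg t ((e : K) * t * u)
  have hs1 : X D s u * X D r t = X D r t * X D s u * X D k (-((e : K) * t * u)) := by
    refine Subtype.ext ?_
    simp only [Subgroup.coe_mul, L.X_val hr, L.X_val hs, L.X_val hkn]
    rw [L.facts.xU_comm L.comm hr hs hne (by rwa [neg_eq L.arrays hr]) t u, cwR, hT]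
    simp [wU]
  rw [← L.X_inv hkn, eq_mul_inv_iff_mul_eq] at hs1
  rw [mul_inv_eq_iff_eq_mul, mul_assoc, ← hc.eq, ← mul_assoc, ← hs1]

/-! ### Reflections and the torus -/

theorem smp_lt {i : ℕ} (hi : i < D.rank) : T.smp i < D.nroots := by
  rw [← simple_eq L.arrays hi]; exact L.facts.simple_lt' hi

/-- Representatives of the fundamental reflections. -/
theorem exists_N {i : ℕ} (hi : i < D.rank) : ∃ (g : ↥(D.group K)) (e : ℕ → K),
    ∀ s < D.nroots, T.refl i s < D.nroots ∧ (e s = 1 ∨ e s = -1) ∧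
      ∀ t : K, g * X D s t * g⁻¹ = X D (T.refl i s) (e s * t) := by
  obtain ⟨η, h1, -, h3⟩ := L.facts.exists_eta (F := K) hi
  have hg : nS D K ⟨i, hi⟩ ∈ D.group K := L.facts.monomial_le_group (L.facts.nS_mem _)
  refine ⟨⟨_, hg⟩, fun s => (η s : K), fun s hs => ?_⟩
  have hrl : T.refl i s < D.nroots := by
    rw [← reflect_eq L.arrays L.chain hi hs]; exact L.facts.refl_lt i hi s hs
  refine ⟨hrl, by rcases h1 s hs with h | h <;> simp [h], fun t => Subtype.ext ?_⟩
  simp only [Subgroup.coe_mul, Subgroup.coe_inv, L.X_val hs, L.X_val hrl, nS]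
  rw [h3 s hs t, mul_inv_cancel_right, reflect_eq L.arrays L.chain hi hs]

/-- One parameter tori. -/
theorem exists_H {i : ℕ} (hi : i < D.rank) (c : Kˣ) : ∃ g : ↥(D.group K),
    ∀ s < D.nroots, ∀ t : K, g * X D s t * g⁻¹ = X D s (((c ^ T.aa i s : Kˣ) : K) * t) := by
  let f : ℕ → Kˣ := fun m => if m = i then c else 1
  have hg : hT D f ∈ D.group K :=
    L.facts.diagonal_le_group (L.facts.mem_diagonal_iff.2 ⟨_, rfl⟩)
  refine ⟨⟨_, hg⟩, fun s hs t => Subtype.ext ?_⟩
  simp only [Subgroup.coe_mul, Subgroup.coe_inv, L.X_val hs]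
  rw [L.facts.hT_conj_xU f hs]
  congr 2
  rw [Finset.prod_eq_single i (fun m _ hm => by simp [f, hm])
    (fun h => absurd (Finset.mem_range.2 hi) h)]
  simp [f, cartan_eq L.arrays hi hs]

end LCtx

end CfsgLib.Known.LieDegree
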