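/-
Integer polynomials as coefficient lists, for excluding a few values of a degree by divisibility.
-/
import Mathlib

set_option autoImplicit false

namespace CfsgLib.Known.LieDegree

/-- The value of a coefficient list. -/
def pev : List ℤ → ℤ → ℤ
  | [], _ => 0
  | a :: l, q => a + q * pev l q

/-- The sum of coefficient lists. -/
def padd : List ℤ → List ℤ → List ℤ
  | [], b => b
  | a :: l, [] => a :: l
  | a :: l, b :: m => (a + b) :: padd l m

/-- A multiple of a coefficient list. -/
def psmul (c : ℤ) (l : List ℤ) : List ℤ := l.map fun a => c * a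

/-- The product of coefficient lists. -/
def pmul : List ℤ → List ℤ → List ℤ
  | [], _ => []
  | a :: l, m => padd (psmul a m) (0 :: pmul l m)

/-- A power of the variable. -/
def mono (n : ℕ) : List ℤ := List.replicate n 0 ++ [1]

/-- A product of factors `q ^ e - 1`. -/
def cycL (es : List ℕ) : List ℤ := es.foldr (fun e l => pmul (padd [-1] (mono e)) l) [1]

/-- Equality of coefficient lists up to trailing zeros. -/
def peqB (a b : List ℤ) : Bool := (padd a (psmul (-1) b)).all fun x => x == 0

theorem pev_padd : ∀ (a b : List ℤ) (q : ℤ), pev (padd a b) q = pev a q + pev b q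
  | [], b, q => by simp [padd, pev]
  | a :: l, [], q => by simp [padd, pev]
  | a :: l, b :: m, q => by simp only [padd, pev, pev_padd l m q]; ring

theorem pev_psmul (c : ℤ) : ∀ (l : List ℤ) (q : ℤ), pev (psmul c l) q = c * pev l q
  | [], q => by simp [psmul, pev]
  | a :: l, q => by
    show c * a + q * pev (psmul c l) q = c * (a + q * pev l q)
    rw [pev_psmul c l q]; ring

theorem pev_pmul : ∀ (a b : List ℤ) (q : ℤ), pev (pmul a b) q = pev a q * pev b q
  | [], b, q => by simp [pmul, pev]
  | a :: l, b, q => by simp only [pmul, pev, pev_padd, pev_psmul, pev_pmul l b q]; ring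

theorem pev_append : ∀ (a b : List ℤ) (q : ℤ), pev (a ++ b) q = pev a q + q ^ a.length * pev b q
  | [], b, q => by simp [pev]
  | a :: l, b, q => by
    simp only [List.cons_append, pev, pev_append l b q, List.length_cons, pow_succ]; ring

theorem pev_mono (n : ℕ) (q : ℤ) : pev (mono n) q = q ^ n := by
  induction n with
  | zero => simp [mono, pev]
  | succ n ih =>
    show 0 + q * pev (mono n) q = q ^ (n + 1)
    rw [ih, pow_succ]; ring

theorem pev_cycL : ∀ (es : List ℕ) (q : ℤ), pev (cycL es) q = (es.map fun e => q ^ e - 1).prod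
  | [], q => by simp [cycL, pev]
  | e :: es, q => by
    show pev (pmul (padd [-1] (mono e)) (cycL es)) q = _
    rw [pev_pmul, pev_padd, pev_mono, pev_cycL es q, List.map_cons, List.prod_cons]
    simp only [pev]
    ring

theorem pev_eq {a b : List ℤ} (h : peqB a b = true) (q : ℤ) : pev a q = pev b q := by
  have hz : ∀ l : List ℤ, (l.all fun x => x == 0) = true → pev l q = 0 := by
    intro l
    induction l with
    | nil => intro _; rfl
    | cons x l ih =>
      intro hl
      simp only [List.all_cons, Bool.and_eq_true, beq_iff_eq] at hl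
      simp [pev, hl.1, ih hl.2]
  have := hz _ h
  rw [pev_padd, pev_psmul] at this
  linarith

theorem abs_pev_le {q C : ℤ} (hq : 1 ≤ q) : ∀ l : List ℤ, (∀ x ∈ l, |x| ≤ C) →
    |pev l q| * (q - 1) ≤ C * (q ^ l.length - 1)
  | [], _ => by simp [pev]
  | a :: l, h => by
    have ih := abs_pev_le hq l fun x hx => h x (List.mem_cons_of_mem _ hx)
    have ha := h a List.mem_cons_self
    have h1 : |a + q * pev l q| ≤ |a| + q * |pev l q| :=
      (abs_add_le _ _).trans (le_of_eq (by rw [abs_mul, abs_of_nonneg (by omega : (0:ℤ) ≤ q)]))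
    simp only [pev, List.length_cons, pow_succ]
    nlinarith [mul_le_mul_of_nonneg_right h1 (by omega : (0:ℤ) ≤ q - 1),
      mul_le_mul_of_nonneg_right ha (by omega : (0:ℤ) ≤ q - 1),
      mul_le_mul_of_nonneg_left ih (by omega : (0:ℤ) ≤ q)]

/-- A remainder of small size excludes the divisibility for large values of the variable. -/
theorem not_dvd_of_rem {P N Qp R0 : List ℤ} {c C B j : ℤ} {d : ℕ}
    (hC0 : 0 ≤ C) (hid : peqB (psmul j P) (padd (pmul Qp N) (R0 ++ [c])) = true) (hd : R0.length + 1 = d)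
    (hC : (R0.all fun x => decide (|x| ≤ C)) = true) (hc : C < |c| * B)
    (hB : C < B * (B + 1 - |c|)) (hcB : |c| ≤ B) {q : ℤ} (hq : B + 1 ≤ q)
    (hN : q ^ d ≤ pev N q) : ¬ pev N q ∣ j * pev P q := by
  intro hdvd
  have e := pev_eq hid q
  rw [pev_psmul, pev_padd, pev_pmul, pev_append] at e
  simp only [pev, mul_zero, add_zero] at e
  set r := pev R0 q + q ^ R0.length * c with hr
  have hdr : pev N q ∣ r := by
    have h2 : r = j * pev P q - pev Qp q * pev N q := by linarith
    rw [h2]; exact dvd_sub hdvd (dvd_mul_left _ _)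
  have hc0 : 0 ≤ |c| := abs_nonneg c
  have hB0 : 0 ≤ B := hc0.trans hcB
  have hq1 : 1 ≤ q := by omega
  simp only [List.all_eq_true, decide_eq_true_eq] at hC
  have hb := abs_pev_le hq1 R0 hC
  set A := q ^ R0.length with hA
  have hA1 : 1 ≤ A := one_le_pow₀ hq1
  have hb' : |pev R0 q| * (q - 1) < A * (|c| * B) ∧ |pev R0 q| * (q - 1) < A * (B * (B + 1 - |c|)) := by
    constructor <;> nlinarith
  have hcB1 : |c| * B ≤ |c| * (q - 1) := mul_le_mul_of_nonneg_left (by omega) hc0
  have hne : r ≠ 0 := by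
    intro h0
    have h1 : |pev R0 q| = A * |c| := by
      rw [show pev R0 q = -(A * c) by rw [hr] at h0; linarith, abs_neg, abs_mul,
        abs_of_nonneg (by omega : (0:ℤ) ≤ A)]
    rw [h1] at hb'
    nlinarith [hb'.1, mul_le_mul_of_nonneg_left hcB1 (by omega : (0:ℤ) ≤ A)]
  have habs : |r| * (q - 1) < (q - 1) * q ^ d := by
    have h1 : |r| ≤ |pev R0 q| + A * |c| :=
      (abs_add_le _ _).trans (le_of_eq (by rw [abs_mul, abs_of_nonneg (by omega : (0:ℤ) ≤ A)]))
    rw [← hd, pow_succ, ← hA]
    have h2 : B * (B + 1 - |c|) ≤ (q - 1) * (q - |c|) :=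
      mul_le_mul (by omega) (by omega) (by omega) (by omega)
    nlinarith [mul_le_mul_of_nonneg_right h1 (by omega : (0:ℤ) ≤ q - 1),
      mul_le_mul_of_nonneg_left h2 (by omega : (0:ℤ) ≤ A), hb'.2]
  have hle : |pev N q| ≤ |r| := Int.le_of_dvd (abs_pos.2 hne) ((abs_dvd _ _).2 ((dvd_abs _ _).2 hdr))
  have hN0 : 0 ≤ pev N q := le_trans (pow_nonneg (by omega) _) hN
  rw [abs_of_nonneg hN0] at hle
  nlinarith [mul_le_mul_of_nonneg_right (hN.trans hle) (by omega : (0:ℤ) ≤ q - 1)]

/-- A divisor congruent to `-j` modulo `q` shares little with a power of `q`. -/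
theorem dvd_mul_of_dvd_pow_mul {q k j n P : ℕ} (hq : IsPrimePow q) (hj : 0 < j) (hjq : j < q)
    (hmod : q ∣ k + j) (h : k ∣ q ^ n * P) : k ∣ j * P := by
  obtain ⟨p, f, hp, hf, rfl⟩ := (isPrimePow_nat_iff q).1 hq
  set g := Nat.gcd k ((p ^ f) ^ n) with hg
  have hgk : g ∣ k := Nat.gcd_dvd_left _ _
  have hgp : g ∣ p ^ (f * n) := by rw [pow_mul]; exact Nat.gcd_dvd_right _ _
  obtain ⟨i, hi, hge⟩ := (Nat.dvd_prime_pow hp).1 hgp
  have hgj : g ∣ j := by
    rcases Nat.lt_or_ge i f with hlt | hle
    · have : g ∣ p ^ f := hge ▸ pow_dvd_pow p hlt.le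
      exact (Nat.dvd_add_right hgk).1 (this.trans hmod)
    · exfalso
      have : p ^ f ∣ k := (hge ▸ pow_dvd_pow p hle : p ^ f ∣ g).trans hgk
      exact absurd (Nat.le_of_dvd hj ((Nat.dvd_add_right this).1 hmod)) (by omega)
  obtain ⟨a, b, ha, hb, he⟩ := exists_dvd_and_dvd_of_dvd_mul h
  rw [he]
  refine mul_dvd_mul (Dvd.dvd.trans (Nat.dvd_gcd (he ▸ dvd_mul_right a b) ha) hgj) hb

end CfsgLib.Known.LieDegree
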