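/-
Simultaneous eigenvectors of root groups in a representation of a simply laced Chevalley group.
-/
import Mathlib
import Cfsg.Agent.Lib.Known.LieDegree.Laced

set_option autoImplicit false

namespace CfsgLib.Known.LieDegree

open Cfsg.Lie CfsgLib.Chev CfsgLib.Chev.Table

universe v

/-- A set of roots is stable under translation by `δ`. -/
def closedB (T : Tab) (δ : ℕ) (S : List ℕ) : Bool :=
  S.all fun r => !(r == T.neg δ) && (match T.tg δ r with | none => true | some k => S.contains k)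

theorem closedB_spec {T : Tab} {δ : ℕ} {S : List ℕ} (h : closedB T δ S = true) {r : ℕ} (hr : r ∈ S) :
    r ≠ T.neg δ ∧ ∀ k, T.tg δ r = some k → k ∈ S := by
  have := List.all_eq_true.1 h r hr
  simp only [Bool.and_eq_true, Bool.not_eq_true', beq_eq_false_iff_ne] at this
  refine ⟨this.1, fun k hk => ?_⟩
  have h2 := this.2
  rw [hk] at h2
  simpa using h2

section Chars

variable {K : Type*} [Field K] [Fintype K]

theorem addChar_ne_one_exists : ∃ ψ : AddChar K ℂ, ψ ≠ 1 :=
  Fintype.exists_ne_of_one_lt_card (by rw [AddChar.card_eq]; exact Fintype.one_lt_card) 1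

/-- Every additive character is a multiple of a given non-trivial one. -/
theorem exists_mulShift {ψ : AddChar K ℂ} (hψ : ψ ≠ 1) (ψ' : AddChar K ℂ) :
    ∃ c : K, ψ' = AddChar.mulShift ψ c := by
  have hinj := AddChar.to_mulShift_inj_of_isPrimitive (AddChar.IsPrimitive.of_ne_one hψ)
  obtain ⟨c, hc⟩ := ((Fintype.bijective_iff_injective_and_card _).2 ⟨hinj, AddChar.card_eq.symm⟩).2 ψ'
  exact ⟨c, hc.symm⟩

theorem exists_scale {ψ ψ' : AddChar K ℂ} (hψ : ψ ≠ 1) (hψ' : ψ' ≠ 1) :
    ∃ c : Kˣ, ψ' = AddChar.mulShift ψ c := by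
  obtain ⟨c, rfl⟩ := exists_mulShift hψ ψ'
  refine ⟨Units.mk0 c fun h => hψ' ?_, rfl⟩
  rw [h, AddChar.mulShift_zero]

omit [Fintype K] in
theorem mulShift_one_char (c : K) : AddChar.mulShift (1 : AddChar K ℂ) c = 1 := by
  ext t
  simp [AddChar.mulShift_apply]

omit [Fintype K] in
theorem mulShift_ne_one {ψ : AddChar K ℂ} (hψ : ψ ≠ 1) {c : K} (hc : c ≠ 0) :
    AddChar.mulShift ψ c ≠ 1 := AddChar.IsPrimitive.of_ne_one hψ hc

end Chars

/-- Vectors with trivial relations span a space complementary to common fixed vectors. -/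
theorem finrank_add_card_le {V : Type*} [AddCommGroup V] [Module ℂ V] [FiniteDimensional ℂ V]
    {ι κ : Type*} [Fintype ι] (g : κ → Module.End ℂ V) (v : ι → V) (χ : ι → κ → ℂ)
    (hne : ∀ i, v i ≠ 0) (hv : ∀ i a, g a (v i) = χ i a • v i) (hinj : Function.Injective χ)
    (h1 : ∀ i, ∃ a, χ i a ≠ 1) {W W0 : Submodule ℂ V} (hW0 : W0 ≤ W) (hvW : ∀ i, v i ∈ W)
    (hfix : ∀ w ∈ W0, ∀ a, g a w = w) :
    Module.finrank ℂ W0 + Fintype.card ι ≤ Module.finrank ℂ W := by
  classical
  have key : ∀ (s : Finset ι) (c : ι → ℂ), (∀ a, g a (∑ i ∈ s, c i • v i) = ∑ i ∈ s, c i • v i) →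
      ∀ i ∈ s, c i = 0 := by
    intro s
    induction s using Finset.strongInductionOn with
    | _ s ih =>
      intro c hc j hj
      -- each coefficient of a fixed combination is killed by some operator
      obtain ⟨a, ha⟩ := h1 j
      have e : ∑ i ∈ s, (c i * (χ i a - 1)) • v i = 0 := by
        have := hc a
        rw [map_sum] at this
        simp only [map_smul, hv, smul_smul] at this
        simp only [mul_sub, mul_one, sub_smul, Finset.sum_sub_distrib, this, sub_self]
      have hz : ∀ d : ι → ℂ, (∑ i ∈ s, d i • v i = 0) → d j = 0 := by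
        intro d hd
        by_cases hs : s = {j}
        · subst hs
          simpa [hne j] using hd
        obtain ⟨l, hl, hlj⟩ : ∃ l ∈ s, l ≠ j := by
          by_contra! h
          exact hs (Finset.eq_singleton_iff_unique_mem.2 ⟨hj, h⟩)
        obtain ⟨b, hb⟩ : ∃ b, χ l b ≠ χ j b := by
          by_contra! h
          exact hlj (hinj (funext h))
        have e2 : ∑ i ∈ s.erase l, (d i * (χ i b - χ l b)) • v i = 0 := by
          have h0 : g b (∑ i ∈ s, d i • v i) - χ l b • ∑ i ∈ s, d i • v i = 0 := by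
            rw [hd, map_zero, smul_zero, sub_zero]
          rw [map_sum, Finset.smul_sum, ← Finset.sum_sub_distrib] at h0
          rw [← h0, ← Finset.add_sum_erase s _ hl]
          simp only [map_smul, hv, smul_smul, mul_sub, sub_smul, mul_comm (χ l b), sub_self, zero_add]
        have := ih (s.erase l) (Finset.erase_ssubset hl) (fun i => d i * (χ i b - χ l b))
          (fun a => by rw [e2, map_zero]) j (Finset.mem_erase.2 ⟨Ne.symm hlj, hj⟩)
        exact (mul_eq_zero.1 this).resolve_right (sub_ne_zero.2 (Ne.symm hb))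
      exact (mul_eq_zero.1 (hz _ e)).resolve_right (sub_ne_zero.2 ha)
  have hli : LinearIndependent ℂ v := Fintype.linearIndependent_iff.2 fun c hc i =>
    key Finset.univ c (fun a => by rw [hc, map_zero]) i (Finset.mem_univ i)
  have hdis : Submodule.span ℂ (Set.range v) ⊓ W0 = ⊥ := by
    rw [eq_bot_iff]
    rintro x ⟨hx, hx0⟩
    obtain ⟨c, rfl⟩ := (Submodule.mem_span_range_iff_exists_fun ℂ).1 hx
    rw [Submodule.mem_bot]
    exact Finset.sum_eq_zero fun i hi => by rw [key Finset.univ c (fun a => hfix _ hx0 a) i hi, zero_smul]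
  have hle : Submodule.span ℂ (Set.range v) ⊔ W0 ≤ W :=
    sup_le (Submodule.span_le.2 (by rintro _ ⟨i, rfl⟩; exact hvW i)) hW0
  have := Submodule.finrank_sup_add_finrank_inf_eq (Submodule.span ℂ (Set.range v)) W0
  rw [hdis, finrank_bot, add_zero, finrank_span_eq_card hli] at this
  have := Submodule.finrank_mono hle
  omega

variable {D : ChevalleyDatum} {T : Tab} (L : LCtx.{v} D T) {K : Type v} [Field K]
  {V : Type*} [AddCommGroup V] [Module ℂ V] (ρ : Representation ℂ ↥(D.group K) V)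

/-- A simultaneous eigenvector of the root groups in `S`. -/
def Eigen (S : List ℕ) (θ : ℕ → AddChar K ℂ) (v : V) : Prop :=
  ∀ r ∈ S, ∀ t : K, ρ (X D r t) v = θ r t • v

/-- The vectors fixed by the root groups in `S`. -/
def fixed (S : List ℕ) : Submodule ℂ V where
  carrier := {v | ∀ r ∈ S, ∀ t : K, ρ (X D r t) v = v}
  add_mem' {a b} ha hb r hr t := by rw [map_add, ha r hr t, hb r hr t]
  zero_mem' r _ t := map_zero _
  smul_mem' c a ha r hr t := by rw [map_smul, ha r hr t]

theorem mem_fixed {S : List ℕ} {v : V} :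
    v ∈ fixed ρ S ↔ ∀ r ∈ S, ∀ t : K, ρ (X D r t) v = v := Iff.rfl

theorem Eigen.mem_fixed {S S' : List ℕ} {θ : ℕ → AddChar K ℂ} {v : V} (h : Eigen ρ S θ v)
    (hS : ∀ r ∈ S', r ∈ S ∧ θ r = 1) : v ∈ fixed ρ S' := fun r hr t => by
  rw [h r (hS r hr).1 t, (hS r hr).2, AddChar.one_apply, one_smul]

theorem fixed_anti {S S' : List ℕ} (h : ∀ r ∈ S', r ∈ S) : fixed ρ S ≤ fixed ρ S' :=
  fun _ hv r hr => hv r (h r hr)

theorem rho_ne_zero (g : ↥(D.group K)) {v : V} (hv : v ≠ 0) : ρ g v ≠ 0 := fun h => hv (by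
  have := congrArg (ρ g⁻¹) h
  rwa [map_zero, ← Module.End.mul_apply, ← map_mul, inv_mul_cancel, map_one, Module.End.one_apply]
    at this)

theorem rho_conj (g x : ↥(D.group K)) (v : V) :
    ρ (g * x * g⁻¹) (ρ g v) = ρ g (ρ x v) := by
  rw [← Module.End.mul_apply, ← map_mul, ← Module.End.mul_apply, ← map_mul]
  congr 1
  group

/-- Transport of an eigenvector along an element permuting the root groups. -/
theorem Eigen.map {S S' : List ℕ} {θ θ' : ℕ → AddChar K ℂ} {v : V} (h : Eigen ρ S θ v)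
    (g : ↥(D.group K)) (f : ℕ → ℕ) (e : ℕ → K)
    (hg : ∀ r ∈ S, e r ≠ 0 ∧ ∀ t : K, g * X D r t * g⁻¹ = X D (f r) (e r * t))
    (hS : ∀ r ∈ S', ∃ r₀ ∈ S, f r₀ = r)
    (hθ : ∀ r ∈ S, θ' (f r) = AddChar.mulShift (θ r) (e r)⁻¹) :
    Eigen ρ S' θ' (ρ g v) := by
  intro r hr u
  obtain ⟨r₀, hr₀, rfl⟩ := hS r hr
  obtain ⟨he, hc⟩ := hg r₀ hr₀
  have hu : e r₀ * ((e r₀)⁻¹ * u) = u := mul_inv_cancel_left₀ he u
  rw [← hu, ← hc, rho_conj, h r₀ hr₀, map_smul, hu, hθ r₀ hr₀, AddChar.mulShift_apply]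

variable {L}
include L

/-- Transport of an eigenvector along a root element. -/
theorem Eigen.step {S : List ℕ} {θ : ℕ → AddChar K ℂ} {v : V} (h : Eigen ρ S θ v) {δ : ℕ}
    (hδ : δ < D.nroots) (hS : ∀ r ∈ S, r < D.nroots) (hcl : closedB T δ S = true) (t : K) :
    ∃ θ' : ℕ → AddChar K ℂ, Eigen ρ S θ' (ρ (X D δ t) v) ∧
      (∀ r ∈ S, T.tg δ r = none → θ' r = θ r) ∧
      ∀ r ∈ S, ∀ k, T.tg δ r = some k →
        ∃ c : K, c = -(T.nn δ r : K) ∧ c ≠ 0 ∧ θ' r = θ r * AddChar.mulShift (θ k) (c * t) := by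
  classical
  have hall : ∀ r, ∃ ψ : AddChar K ℂ, r ∈ S →
      (∀ u, ρ (X D r u) (ρ (X D δ t) v) = ψ u • ρ (X D δ t) v) ∧
      (T.tg δ r = none → ψ = θ r) ∧
      ∀ k, T.tg δ r = some k → ∃ c : K, c = -(T.nn δ r : K) ∧ c ≠ 0 ∧
        ψ = θ r * AddChar.mulShift (θ k) (c * t) := by
    intro r
    by_cases hr : r ∈ S
    swap
    · exact ⟨1, fun h => absurd h hr⟩
    obtain ⟨hne, hk⟩ := closedB_spec hcl hr
    have hrn := hS r hr
    rcases hT : T.tg δ r with _ | k
    · refine ⟨θ r, fun _ => ⟨fun u => ?_, fun _ => rfl, fun k hk => by simp at hk⟩⟩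
      have hc := L.X_conj_same hδ hrn (L.tg_none hT) hne t u
      conv_lhs => rw [← hc, rho_conj, h r hr u, map_smul]
    · obtain ⟨c, hc, hcn, hcj⟩ := L.X_conj (K := K) hδ hrn hT
      have hkS := hk k hT
      refine ⟨θ r * AddChar.mulShift (θ k) (-c * t), fun _ => ⟨fun u => ?_, fun h => by simp at h,
        fun k' hk' => ⟨-c, by rw [hcn], by rcases hc with rfl | rfl <;> simp, by
          obtain rfl : k = k' := by simpa using hk'
          rfl⟩⟩⟩
      have e0 := hcj (-t) u
      rw [← L.X_inv hδ, inv_inv] at e0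
      have e1 : X D r u * X D δ t = X D δ t * (X D r u * X D k (c * -t * u)) := by
        rw [← e0]; group
      rw [← Module.End.mul_apply, ← map_mul, e1, map_mul, map_mul, Module.End.mul_apply,
        Module.End.mul_apply, h k hkS, map_smul, h r hr, smul_smul, map_smul]
      congr 1
      rw [AddChar.mul_apply, AddChar.mulShift_apply, mul_comm]
      congr 2
      ring
  choose θ' hθ' using hall
  exact ⟨θ', fun r hr => (hθ' r hr).1, fun r hr => (hθ' r hr).2.1, fun r hr => (hθ' r hr).2.2⟩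

end CfsgLib.Known.LieDegree
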