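/-
Vectors fixed by all but one positive simple root group, and their propagation along the diagram.
-/
import Mathlib
import Cfsg.Agent.Lib.Known.LieDegree.Eig
import Cfsg.Agent.Lib.Known.D4Degree.AbelChar

set_option autoImplicit false
set_option maxHeartbeats 1000000

namespace CfsgLib.Known.LieDegree

open Cfsg.Lie CfsgLib.Chev CfsgLib.Chev.Table CfsgLib.Known.D4Degree

universe v

/-- The positive roots. -/
def posList (T : Tab) : List ℕ :=
  (List.range T.nroots).filter fun r => Nat.ble (T.nroots / 2) r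

/-- The positive roots outside a rank two subsystem. -/
def restList (T : Tab) (a b k : ℕ) : List ℕ :=
  (posList T).filter fun r => !(r == a || r == b || r == k)

/-- The checks for a pair of adjacent simple roots. -/
def adjB (T : Tab) (i j : ℕ) : Bool :=
  let a := T.smp i
  let b := T.smp j
  match T.tg b a with
  | none => false
  | some k =>
    let S := restList T a b k
    (T.aa i b == -1) &&
    (T.tg a b == some k) && (T.refl i b == k) && (T.refl j a == k) &&
    !(a == b || a == k || b == k) &&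
    (posList T).contains a && (posList T).contains b && (posList T).contains k &&
    closedB T a S && closedB T b S && closedB T k S && closedB T b (a :: k :: S) &&
    S.all (fun r => S.contains (T.refl i r) && (T.refl i (T.refl i r) == r) &&
      S.contains (T.refl j r) && (T.refl j (T.refl j r) == r))

variable {D : ChevalleyDatum} {T : Tab} {L : LCtx.{v} D T} {K : Type v} [Field K] [Fintype K]
  {V : Type*} [AddCommGroup V] [Module ℂ V] (ρ : Representation ℂ ↥(D.group K) V)

/-- Every non-trivial character of the `i`-th simple root group occurs on a vector fixed by the other positive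
root groups. -/
def LineAt (T : Tab) (i : ℕ) : Prop :=
  ∀ ψ : AddChar K ℂ, ψ ≠ 1 → ∃ v : V, v ≠ 0 ∧
    Eigen ρ (posList T) (fun r => if r = T.smp i then ψ else 1) v

/-- The restriction of an element to an invariant subspace. -/
noncomputable def rs (W : Submodule ℂ V) (g : ↥(D.group K)) : Module.End ℂ W :=
  open Classical in if h : ∀ w ∈ W, ρ g w ∈ W then (ρ g).restrict h else 0

theorem rs_mul {W : Submodule ℂ V} {g h : ↥(D.group K)} (hg : ∀ w ∈ W, ρ g w ∈ W)
    (hh : ∀ w ∈ W, ρ h w ∈ W) : rs ρ W (g * h) = rs ρ W g * rs ρ W h := by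
  have hgh : ∀ w ∈ W, ρ (g * h) w ∈ W := fun w hw => by
    rw [map_mul, Module.End.mul_apply]; exact hg _ (hh w hw)
  refine LinearMap.ext fun w => Subtype.ext ?_
  simp only [rs, dif_pos hg, dif_pos hh, dif_pos hgh, Module.End.mul_apply, LinearMap.restrict_apply,
    map_mul]

theorem rs_one {W : Submodule ℂ V} : rs ρ W 1 = 1 := by
  have h : ∀ w ∈ W, ρ (1 : ↥(D.group K)) w ∈ W := fun w hw => by
    rwa [map_one, Module.End.one_apply]
  refine LinearMap.ext fun w => Subtype.ext ?_
  simp only [rs, dif_pos h, LinearMap.restrict_apply, map_one, Module.End.one_apply]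

theorem stab_inv [FiniteDimensional ℂ V] {W : Submodule ℂ V} {g : ↥(D.group K)} (hg : ∀ w ∈ W, ρ g w ∈ W) :
    ∀ w ∈ W, ρ g⁻¹ w ∈ W := by
  intro w hw
  have hinj : Function.Injective ((ρ g).restrict hg) := fun x y h => Subtype.ext (by
    have e := congrArg Subtype.val h
    simp only [LinearMap.restrict_apply] at e
    have := congrArg (ρ g⁻¹) e
    rwa [← Module.End.mul_apply, ← Module.End.mul_apply, ← map_mul, inv_mul_cancel, map_one,
      Module.End.one_apply, Module.End.one_apply] at this)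
  obtain ⟨x, hx⟩ := LinearMap.injective_iff_surjective.1 hinj ⟨w, hw⟩
  have e : ρ g (x : V) = w := congrArg Subtype.val hx
  rw [← e, ← Module.End.mul_apply, ← map_mul, inv_mul_cancel, map_one, Module.End.one_apply]
  exact x.2

theorem trace_rs_conj [FiniteDimensional ℂ V] {W : Submodule ℂ V} {g h : ↥(D.group K)} (hg : ∀ w ∈ W, ρ g w ∈ W)
    (hh : ∀ w ∈ W, ρ h w ∈ W) :
    LinearMap.trace ℂ W (rs ρ W (g * h * g⁻¹)) =
      LinearMap.trace ℂ W (rs ρ W h) := by
  have hgh : ∀ w ∈ W, ρ (g * h) w ∈ W := fun w hw => by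
    rw [map_mul, Module.End.mul_apply]; exact hg _ (hh w hw)
  rw [rs_mul ρ hgh (stab_inv ρ hg), rs_mul ρ hg hh, LinearMap.trace_mul_comm, ← mul_assoc,
    ← rs_mul ρ (stab_inv ρ hg) hg, inv_mul_cancel, rs_one, one_mul]

include L

theorem pos_lt {r : ℕ} (hr : r ∈ posList T) : r < D.nroots := by
  rw [nroots_eq L.arrays]
  exact List.mem_range.1 (List.mem_filter.1 hr).1

theorem lineAt_of_one {i j : ℕ} (hj : j < D.rank) (hij : T.aa j (T.smp i) = -1)
    {ψ : AddChar K ℂ} (hψ : ψ ≠ 1) {v : V} (hv : v ≠ 0)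
    (h : Eigen ρ (posList T) (fun r => if r = T.smp i then ψ else 1) v) : LineAt ρ T i := by
  intro ψ' hψ'
  obtain ⟨c, rfl⟩ := exists_scale hψ hψ'
  obtain ⟨g, hg⟩ := L.exists_H (K := K) hj c
  refine ⟨ρ g v, rho_ne_zero ρ g hv, Eigen.map ρ h g id
    (fun r => ((c ^ T.aa j r : Kˣ) : K)) (fun r hr => ⟨Units.ne_zero _, hg r (pos_lt (L := L) hr)⟩)
    (fun r hr => ⟨r, hr, rfl⟩) fun r _ => ?_⟩
  dsimp only [id]
  by_cases hr : r = T.smp i
  · subst hr
    rw [if_pos rfl, if_pos rfl, hij, zpow_neg, zpow_one, Units.val_inv_eq_inv_val, inv_inv]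
  · rw [if_neg hr, if_neg hr, mulShift_one_char]

variable [FiniteDimensional ℂ V]

/-- The dimension of the fixed space of two commuting root groups in an invariant subspace. -/
theorem card_mul_finrank_fixed {S : List ℕ} {a b k : ℕ} (ha : a < D.nroots) (hb : b < D.nroots)
    (hk : k < D.nroots) (hba : T.tg b a = some k) (hak : T.ent a k = 0) (hne : k ≠ T.neg a)
    (hA : ∀ t w, w ∈ fixed ρ S → ρ (X D a t) w ∈ fixed ρ S)
    (hB : ∀ t w, w ∈ fixed ρ S → ρ (X D b t) w ∈ fixed ρ S)
    (hK : ∀ t w, w ∈ fixed ρ S → ρ (X D k t) w ∈ fixed ρ S) :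
    ((Fintype.card K : ℂ) * Fintype.card K) * Module.finrank ℂ (fixed ρ (a :: k :: S)) =
      (∑ t, LinearMap.trace ℂ _ (rs ρ (fixed ρ S) (X D k t))) +
        Fintype.card K * ((∑ t, LinearMap.trace ℂ _ (rs ρ (fixed ρ S) (X D a t))) -
          Module.finrank ℂ (fixed ρ S)) := by
  classical
  set W := fixed ρ S with hW
  set σ : ↥(D.group K) → Module.End ℂ W := rs ρ W with hσ
  have hAK : ∀ s t, ∀ w ∈ W, ρ (X D a s * X D k t) w ∈ W := fun s t w hw => by
    rw [map_mul, Module.End.mul_apply]; exact hA _ _ (hK _ _ hw)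
  have hval : ∀ (g : ↥(D.group K)) (hg : ∀ w ∈ W, ρ g w ∈ W) (w : W), (σ g w : V) = ρ g w :=
    fun g hg w => by simp [hσ, rs, dif_pos hg, LinearMap.restrict_apply]
  set E : Module.End ℂ W :=
    ((Fintype.card K : ℂ) * Fintype.card K)⁻¹ • ∑ s : K, ∑ t : K, σ (X D a s * X D k t) with hE
  have hq : ((Fintype.card K : ℂ) * Fintype.card K) ≠ 0 := by simp [Fintype.card_ne_zero]
  have hEv : ∀ w : W, (E w : V) = ((Fintype.card K : ℂ) * Fintype.card K)⁻¹ •
      ∑ s : K, ∑ t : K, ρ (X D a s) (ρ (X D k t) w) := fun w => by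
    simp only [hE, LinearMap.smul_apply, LinearMap.sum_apply, Submodule.coe_smul, Submodule.coe_sum,
      hval _ (hAK _ _), map_mul, Module.End.mul_apply]
  set F : Submodule ℂ W := (fixed ρ (a :: k :: S)).comap W.subtype with hF
  have hproj : LinearMap.IsProj F E := by
    refine ⟨fun w => ?_, fun w hw => Subtype.ext ?_⟩
    · rw [hF, Submodule.mem_comap, mem_fixed]
      intro r hr u
      rcases List.mem_cons.1 hr with rfl | hr
      · simp only [Submodule.coe_subtype, hEv, map_smul, map_sum]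
        congr 1
        refine Fintype.sum_equiv (Equiv.addLeft u) _ _ fun s => ?_
        simp only [Equiv.coe_addLeft, L.X_add ha, map_mul, Module.End.mul_apply]
      rcases List.mem_cons.1 hr with rfl | hr
      · simp only [Submodule.coe_subtype, hEv, map_smul, map_sum]
        congr 1
        refine Finset.sum_congr rfl fun s _ => Fintype.sum_equiv (Equiv.addLeft u) _ _ fun t => ?_
        simp only [Equiv.coe_addLeft, L.X_add hk, map_mul, Module.End.mul_apply]
        rw [← Module.End.mul_apply, ← map_mul, ← (L.X_commute ha hk hak hne s u).eq, map_mul,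
          Module.End.mul_apply]
      · exact (E w).2 r hr u
    · rw [hF, Submodule.mem_comap, mem_fixed] at hw
      have h1 : ∀ s t : K, ρ (X D a s) (ρ (X D k t) (w : V)) = w := fun s t => by
        have e1 := hw k (by simp) t
        have e2 := hw a (by simp) s
        simp only [Submodule.coe_subtype] at e1 e2
        rw [e1, e2]
      rw [hEv]
      simp only [h1, Finset.sum_const, Finset.card_univ, ← Nat.cast_smul_eq_nsmul ℂ, smul_smul]
      rw [inv_mul_cancel₀ hq, one_smul]
  have hdim : Module.finrank ℂ F = Module.finrank ℂ (fixed ρ (a :: k :: S)) :=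
    (Submodule.comapSubtypeEquivOfLe (fixed_anti ρ fun r hr => by simp [hr])).finrank_eq
  obtain ⟨c, hc, -, hcj⟩ := L.X_conj (K := K) hb ha hba
  have hc0 : c ≠ 0 := by rcases hc with rfl | rfl <;> simp
  have hmove : ∀ s t : K, s ≠ 0 → LinearMap.trace ℂ W (σ (X D a s * X D k t)) =
      LinearMap.trace ℂ W (σ (X D a s)) := fun s t hs => by
    have e : X D a s * X D k t = X D b (t / (c * s)) * X D a s * (X D b (t / (c * s)))⁻¹ := by
      rw [hcj]; congr 2; field_simp
    rw [e]
    exact trace_rs_conj ρ (hB _) (hA _)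
  have htr := hproj.trace
  rw [hdim] at htr
  have e1 : ((Fintype.card K : ℂ) * Fintype.card K) * LinearMap.trace ℂ W E =
      ∑ s : K, ∑ t : K, LinearMap.trace ℂ W (σ (X D a s * X D k t)) := by
    simp only [hE, map_smul, map_sum, smul_eq_mul]
    rw [← mul_assoc, mul_inv_cancel₀ hq, one_mul]
  rw [← htr, e1, ← Finset.add_sum_erase _ _ (Finset.mem_univ (0 : K))]
  congr 1
  · simp [L.X_zero ha]

  · rw [Finset.sum_congr rfl fun s hs => by
      rw [Finset.sum_congr rfl fun t _ => hmove s t (Finset.ne_of_mem_erase hs), Finset.sum_const,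
        Finset.card_univ, nsmul_eq_mul], ← Finset.mul_sum, Finset.sum_erase_eq_sub (Finset.mem_univ _)]
    congr 2
    rw [L.X_zero ha, hσ, rs_one, LinearMap.trace_one]

theorem sum_trace_refl {S : List ℕ} {i r r' : ℕ} (hi : i < D.rank) (hr : r < D.nroots)
    (hrr : T.refl i r = r') (hS : ∀ s ∈ S, s < D.nroots ∧ T.refl i s ∈ S ∧ T.refl i (T.refl i s) = s)
    (hX : ∀ t w, w ∈ fixed ρ S → ρ (X D r t) w ∈ fixed ρ S) :
    ∑ t : K, LinearMap.trace ℂ _ (rs ρ (fixed ρ S) (X D r t)) =
      ∑ t : K, LinearMap.trace ℂ _ (rs ρ (fixed ρ S) (X D r' t)) := by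
  classical
  obtain ⟨g, e, he⟩ := L.exists_N (K := K) hi
  have hg : ∀ w ∈ fixed ρ S, ρ g w ∈ fixed ρ S := fun w hw s hs t => by
    obtain ⟨hsn, hs', hss⟩ := hS s hs
    obtain ⟨-, hes, hcj⟩ := he _ (hS _ hs').1
    rw [hss] at hcj
    have e0 : e (T.refl i s) ≠ 0 := by rcases hes with h | h <;> simp [h]
    rw [← mul_inv_cancel_left₀ e0 t, ← hcj, rho_conj, hw _ hs']
  obtain ⟨-, her, hcj⟩ := he r hr
  have e0 : e r ≠ 0 := by rcases her with h | h <;> simp [h]
  subst hrr
  refine Fintype.sum_equiv (Equiv.mulLeft₀ (e r) e0) _ _ fun t => ?_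
  show _ = LinearMap.trace ℂ _ (rs ρ (fixed ρ S) (X D (T.refl i r) (e r * t)))
  rw [← hcj]
  exact (trace_rs_conj ρ hg (hX t)).symm

/-- The propagation of `LineAt` to an adjacent simple root. -/
theorem lineAt_adj {i j : ℕ} (hi : i < D.rank) (hj : j < D.rank) (h : adjB T i j = true)
    (hL : LineAt ρ T i) : LineAt ρ T j := by
  classical
  rcases hT : T.tg (T.smp j) (T.smp i) with _ | k
  · simp [adjB, hT] at h
  simp only [adjB, hT, Bool.and_eq_true, Bool.not_eq_true', Bool.or_eq_false_iff,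
    beq_eq_false_iff_ne, beq_iff_eq, List.all_eq_true, List.contains_iff_mem] at h
  obtain ⟨⟨⟨⟨⟨⟨⟨⟨⟨⟨⟨⟨haa, hT'⟩, hrb⟩, hra⟩, ⟨hab, hak⟩, hbk⟩, hap⟩, hbp⟩, hkp⟩, hca⟩, hcb⟩, hck⟩,
    hcb'⟩, hst⟩ := h
  set a := T.smp i
  set b := T.smp j
  set S := restList T a b k with hSdef
  have han := pos_lt (L := L) hap
  have hbn := pos_lt (L := L) hbp
  have hkn := pos_lt (L := L) hkp
  have hSn : ∀ r ∈ S, r < D.nroots := fun r hr => pos_lt (L := L) (List.mem_filter.1 hr).1
  have hinv : ∀ (δ : ℕ) (S' : List ℕ), δ < D.nroots → (∀ r ∈ S', r < D.nroots) →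
      closedB T δ S' = true → ∀ t w, w ∈ fixed ρ S' → ρ (X D δ t) w ∈ fixed ρ S' := by
    intro δ S' hδ hS' hcl t w hw
    obtain ⟨θ', h', h1, h2⟩ := Eigen.step (L := L) ρ (θ := fun _ => 1)
      (fun r hr u => by rw [hw r hr u, AddChar.one_apply, one_smul]) hδ hS' hcl t
    refine h'.mem_fixed ρ fun r hr => ⟨hr, ?_⟩
    rcases hk : T.tg δ r with _ | k'
    · exact h1 r hr hk
    · obtain ⟨c, -, -, e⟩ := h2 r hr k' hk
      rw [e, mulShift_one_char, mul_one]
  have hA := hinv a S han hSn hca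
  have hB := hinv b S hbn hSn hcb
  have hK := hinv k S hkn hSn hck
  have hSk : ∀ l, (l = i ∨ l = j) → ∀ s ∈ S,
      s < D.nroots ∧ T.refl l s ∈ S ∧ T.refl l (T.refl l s) = s := fun l hl s hs => by
    obtain ⟨⟨⟨s1, s2⟩, s3⟩, s4⟩ := hst s hs
    rcases hl with rfl | rfl
    exacts [⟨hSn s hs, s1, s2⟩, ⟨hSn s hs, s3, s4⟩]
  obtain ⟨e1a, e2a, -, -, -, -⟩ := L.tg_spec han hbn hT'
  obtain ⟨e1b, e2b, -, -, -, -⟩ := L.tg_spec hbn han hT
  have hak0 : T.ent a k = 0 := e2a ▸ (L.single a han b hbn e1a).2.2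
  have hbk0 : T.ent b k = 0 := e2b ▸ (L.single b hbn a han e1b).2.2
  have hna : k ≠ T.neg a := e2a ▸ (ent_spec L.arrays L.pairs han hbn e1a).2.2.1
  have hnb : k ≠ T.neg b := e2b ▸ (ent_spec L.arrays L.pairs hbn han e1b).2.2.1
  have d1 := card_mul_finrank_fixed (L := L) ρ han hbn hkn hT hak0 hna hA hB hK
  have d2 := card_mul_finrank_fixed (L := L) ρ hbn han hkn hT' hbk0 hnb hB hA hK
  rw [sum_trace_refl (L := L) ρ hj han hra (hSk j (Or.inr rfl)) hA] at d1
  rw [sum_trace_refl (L := L) ρ hi hbn hrb (hSk i (Or.inl rfl)) hB] at d2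
  have hq : ((Fintype.card K : ℂ) * Fintype.card K) ≠ 0 := by simp [Fintype.card_ne_zero]
  have hdim : Module.finrank ℂ (fixed ρ (a :: k :: S)) = Module.finrank ℂ (fixed ρ (b :: k :: S)) :=
    Nat.cast_injective (mul_left_cancel₀ hq (d1.trans d2.symm))
  have hmem : ∀ r ∈ posList T, r = a ∨ r = b ∨ r = k ∨ r ∈ S := fun r hr => by
    by_cases h : r = a ∨ r = b ∨ r = k
    · tauto
    · exact Or.inr (Or.inr (Or.inr (List.mem_filter.2 ⟨hr, by simp at h; simp [h.1, h.2.1, h.2.2]⟩)))
  have hsub : ∀ r, r ∈ b :: k :: S → r ∈ posList T ∧ r ≠ a := fun r hr => by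
    simp only [List.mem_cons] at hr
    rcases hr with rfl | rfl | hr
    · exact ⟨hbp, Ne.symm hab⟩
    · exact ⟨hkp, Ne.symm hak⟩
    · refine ⟨(List.mem_filter.1 hr).1, fun e => ?_⟩
      have := (List.mem_filter.1 hr).2
      simp [e] at this
  have hlt : Module.finrank ℂ (fixed ρ (posList T)) < Module.finrank ℂ (fixed ρ (b :: k :: S)) := by
    refine Submodule.finrank_lt_finrank_of_lt (lt_of_le_not_ge
      (fixed_anti ρ fun r hr => (hsub r hr).1) fun hle => ?_)
    obtain ⟨ψ, hψ⟩ := addChar_ne_one_exists (K := K)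
    obtain ⟨v, hv, hev⟩ := hL ψ hψ
    have hfx : v ∈ fixed ρ (b :: k :: S) :=
      hev.mem_fixed ρ fun r hr => ⟨(hsub r hr).1, if_neg (hsub r hr).2⟩
    refine hψ (DFunLike.ext _ _ fun t => ?_)
    have e := (hev a hap t).symm.trans ((hle hfx) a hap t)
    simp only [show a = T.smp i from rfl, if_pos] at e
    have e' : (ψ t - 1) • v = 0 := by rw [sub_smul, one_smul, e, sub_self]
    rw [AddChar.one_apply]
    exact sub_eq_zero.1 ((smul_eq_zero.1 e').resolve_right hv)
  rw [← hdim] at hlt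
  obtain ⟨w, hw, hwn⟩ : ∃ w ∈ fixed ρ (a :: k :: S), w ∉ fixed ρ (posList T) := by
    by_contra! hh
    exact absurd (Submodule.finrank_mono (show fixed ρ (a :: k :: S) ≤ fixed ρ (posList T) from hh))
      (not_le.2 hlt)
  set R : K → Module.End ℂ V := fun t => ρ (X D b t) with hR
  have hadd : ∀ s t, R s * R t = R (s + t) := fun s t => by simp only [hR, ← map_mul, L.X_add hbn]
  have hR0 : R 0 = 1 := by simp only [hR, L.X_zero hbn, map_one]
  have hS' : ∀ r ∈ a :: k :: S, r < D.nroots := fun r hr => by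
    simp only [List.mem_cons] at hr
    rcases hr with rfl | rfl | hr
    exacts [han, hkn, hSn r hr]
  have hPw : ∀ χ : AddChar K ℂ, proj R χ w ∈ fixed ρ (a :: k :: S) := fun χ => by
    simp only [proj, LinearMap.smul_apply, LinearMap.sum_apply]
    exact Submodule.smul_mem _ _ (Submodule.sum_mem _ fun t _ =>
      Submodule.smul_mem _ _ (hinv b _ hbn hS' hcb' t w hw))
  obtain ⟨χ, hχ, hχw⟩ : ∃ χ : AddChar K ℂ, χ ≠ 1 ∧ proj R χ w ≠ 0 := by
    by_contra! hh
    refine hwn fun r hr t => ?_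
    rcases hmem r hr with rfl | rfl | rfl | hr
    · exact hw _ (by simp) t
    · have e : w = proj R 1 w := by
        conv_lhs => rw [← Module.End.one_apply (R := ℂ) w, ← sum_proj hR0, LinearMap.sum_apply]
        rw [Finset.sum_eq_single 1 (fun χ _ hne => hh χ hne) (by simp)]
      rw [e]
      show (R t * proj R 1) w = _
      rw [mul_proj hadd, AddChar.one_apply, one_smul]
    · exact hw _ (by simp) t
    · exact hw _ (by simp [hr]) t
  refine lineAt_of_one (L := L) ρ (j := i) hi haa hχ hχw fun r hr t => ?_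
  dsimp only
  by_cases hrb' : r = b
  · rw [if_pos hrb', hrb']
    show (R t * proj R χ) w = _
    rw [mul_proj hadd, LinearMap.smul_apply]
  · rw [if_neg hrb', AddChar.one_apply, one_smul]
    rcases hmem r hr with rfl | rfl | rfl | hr
    · exact hPw χ _ (by simp) t
    · exact absurd rfl hrb'
    · exact hPw χ _ (by simp) t
    · exact hPw χ _ (by simp [hr]) t

end CfsgLib.Known.LieDegree
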