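/-
Counting the characters of one layer of root groups occurring in the fixed space of the layers above.
-/
import Mathlib
import Cfsg.Agent.Lib.Known.LieDegree.Adjacent

set_option autoImplicit false
set_option maxHeartbeats 1000000

namespace CfsgLib.Known.LieDegree

open Cfsg.Lie CfsgLib.Chev CfsgLib.Chev.Table

universe v

/-- A layer of root groups with the data to move and spread a simple character. -/
structure Lev where
  node : ℕ
  prev : List ℕ
  layer : List ℕ
  steps : List (ℕ × ℕ × ℕ)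
  cells : List (ℕ × List ℕ)

/-- The layer together with the roots above it. -/
def Lev.all (l : Lev) : List ℕ := l.prev ++ l.layer

/-- The roots reached by the steps. -/
def reachB (T : Tab) (S : List ℕ) : List ℕ → List (ℕ × ℕ × ℕ) → Bool
  | _, [] => true
  | done, (γ, j, γ') :: rest =>
    done.contains γ' && Nat.blt j T.rank && (T.refl j γ' == γ) &&
      S.all (fun r => S.contains (T.refl j r) && (T.refl j (T.refl j r) == r)) &&
      reachB T S (γ :: done) rest

/-- The checks on one cell. -/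
def cellB (T : Tab) (l : Lev) (γ : ℕ) (ds : List ℕ) : Bool :=
  l.layer.contains γ && !(l.prev.contains γ) && decide ds.Nodup &&
  ds.all (fun d => Nat.blt d T.nroots && closedB T d l.all && closedB T d l.prev &&
    (T.tg d γ).isNone &&
    l.layer.all (fun r => !(Nat.blt γ r) ||
      (match T.tg d r with | none => true | some k => Nat.blt γ k)) &&
    l.layer.any (fun r => (T.tg d r == some γ) &&
      ds.all (fun d' => d' == d || (T.tg d' r).isNone)))

/-- The checks on a layer. -/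
def Lev.checkB (T : Tab) (l : Lev) : Bool :=
  Nat.blt l.node T.rank && l.all.all (fun r => (posList T).contains r) &&
  l.layer.contains (T.smp l.node) && reachB T l.all [T.smp l.node] l.steps &&
  decide (l.cells.map Prod.fst).Nodup &&
  l.cells.all fun c =>
    (T.smp l.node :: l.steps.map Prod.fst).contains c.1 && cellB T l c.1 c.2

/-- The number of characters the layer contributes. -/
def Lev.count (l : Lev) (q : ℕ) : ℕ := (l.cells.map fun c => (q - 1) * q ^ c.2.length).sum

variable {D : ChevalleyDatum} {T : Tab} {L : LCtx.{v} D T} {K : Type v} [Field K] [Fintype K]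
  {V : Type*} [AddCommGroup V] [Module ℂ V] (ρ : Representation ℂ ↥(D.group K) V)

include L

/-- A single character on one root moves along the steps. -/
theorem reach_spec {S : List ℕ} (hSn : ∀ r ∈ S, r < D.nroots) :
    ∀ (steps : List (ℕ × ℕ × ℕ)) (done : List ℕ), reachB T S done steps = true →
      (∀ γ ∈ done, γ ∈ S ∧ ∀ ψ : AddChar K ℂ, ψ ≠ 1 → ∃ v : V, v ≠ 0 ∧
        Eigen ρ S (fun r => if r = γ then ψ else 1) v) →
      ∀ γ ∈ done ++ steps.map Prod.fst, ∀ ψ : AddChar K ℂ, ψ ≠ 1 → ∃ v : V, v ≠ 0 ∧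
        Eigen ρ S (fun r => if r = γ then ψ else 1) v := by
  intro steps
  induction steps with
  | nil => exact fun done _ hd γ hγ => (hd γ (by simpa using hγ)).2
  | cons s rest ih =>
    obtain ⟨γ₁, j, γ'⟩ := s
    intro done h hd γ hγ
    simp only [reachB, Bool.and_eq_true, List.contains_iff_mem, beq_iff_eq, List.all_eq_true,
      blt_iff] at h
    obtain ⟨⟨⟨⟨h1, h2⟩, h3⟩, h4⟩, h5⟩ := h
    refine ih (γ₁ :: done) h5 (fun δ hδ => ?_) γ ?_
    swap
    · simp only [List.mem_append, List.map_cons, List.mem_cons] at hγ ⊢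
      tauto
    rcases List.mem_cons.1 hδ with rfl | hδ'
    swap
    · exact hd δ hδ'
    obtain ⟨hγ'S, hv⟩ := hd γ' h1
    refine ⟨h3 ▸ (h4 γ' hγ'S).1, fun ψ hψ => ?_⟩
    obtain ⟨g, e, he⟩ := L.exists_N (K := K) (i := j) (by rw [rank_eq L.arrays]; exact h2)
    obtain ⟨-, hse, -⟩ := he γ' (hSn _ hγ'S)
    have hne : e γ' ≠ 0 := by rcases hse with h | h <;> simp [h]
    obtain ⟨v, hv0, hev⟩ := hv (AddChar.mulShift ψ (e γ')) (mulShift_ne_one hψ hne)
    refine ⟨ρ g v, rho_ne_zero ρ g hv0, Eigen.map ρ hev g (T.refl j) e (fun r hr => ?_)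
      (fun r hr => ⟨T.refl j r, (h4 r hr).1, (h4 r hr).2⟩) fun r hr => ?_⟩
    · obtain ⟨-, hse, hc⟩ := he r (hSn r hr)
      exact ⟨by rcases hse with h | h <;> simp [h], hc⟩
    · by_cases hr' : r = γ'
      · subst hr'
        rw [if_pos h3, if_pos rfl, AddChar.mulShift_mulShift, mul_inv_cancel₀ hne, AddChar.mulShift_one]
      · rw [if_neg hr', mulShift_one_char, if_neg]
        intro e'
        refine hr' ?_
        rw [← (h4 r hr).2, e', ← h3, (h4 γ' hγ'S).2]

/-- The characters spread from one root by the root elements of a cell. -/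
theorem cell_spread {l : Lev} {γ : ℕ} {ds : List ℕ} (hc : cellB T l γ ds = true)
    (hpn : ∀ r ∈ l.all, r < D.nroots) {ψ : AddChar K ℂ} {v : V} (hv : v ≠ 0)
    (hev : Eigen ρ l.all (fun r => if r = γ then ψ else 1) v) (u : ℕ → K) :
    ∀ ds' : List ℕ, ds'.Nodup → (∀ d ∈ ds', d ∈ ds) →
      ∃ (w : V) (θ : ℕ → AddChar K ℂ), w ≠ 0 ∧ Eigen ρ l.all θ w ∧ θ γ = ψ ∧
        (∀ r ∈ l.prev, θ r = 1) ∧ (∀ r ∈ l.layer, γ < r → θ r = 1) ∧
        ∀ d ∈ ds, ∀ r ∈ l.layer, T.tg d r = some γ →
          (∀ d' ∈ ds, d' ≠ d → T.tg d' r = none) →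
          θ r = if d ∈ ds' then AddChar.mulShift ψ (-(T.nn d r : K) * u d) else 1 := by
  simp only [cellB, Bool.and_eq_true, List.contains_iff_mem, Bool.not_eq_true',
    List.all_eq_true, blt_iff, Option.isNone_iff_eq_none, decide_eq_true_eq] at hc
  obtain ⟨⟨⟨hγ, hγp⟩, -⟩, hds⟩ := hc
  have hγp' : γ ∉ l.prev := by simpa using hγp
  intro ds' hnd hsub
  induction ds' with
  | nil =>
    refine ⟨v, _, hv, hev, if_pos rfl, fun r hr => if_neg fun e => hγp' (by subst e; exact hr),
      fun r _ hr => if_neg hr.ne', fun d hd r _ htg _ => ?_⟩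
    have hdn := (hds d hd).1.1.1.1.1
    rw [if_neg (List.not_mem_nil), if_neg]
    intro e
    rw [e, (hds d hd).1.1.2] at htg
    simp at htg
  | cons d₀ rest ih =>
    obtain ⟨hd₀r, hrest⟩ := List.nodup_cons.1 hnd
    obtain ⟨w, θ, hw, hθ, hθγ, hθp, hθh, hθd⟩ := ih hrest fun d hd => hsub d (List.mem_cons_of_mem _ hd)
    have hd₀ := hsub d₀ List.mem_cons_self
    obtain ⟨⟨⟨⟨⟨hdn, hcl⟩, hclp⟩, hdγ⟩, hhigh⟩, -⟩ := hds d₀ hd₀
    obtain ⟨θ', hθ', hn, hs⟩ := Eigen.step (L := L) ρ hθ (δ := d₀)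
      (by rw [nroots_eq L.arrays]; exact hdn) hpn hcl (u d₀)
    have hlay : ∀ r ∈ l.layer, r ∈ l.all := fun r hr => List.mem_append_right _ hr
    refine ⟨_, θ', rho_ne_zero ρ _ hw, hθ', (hn γ (hlay γ hγ) hdγ).trans hθγ, fun r hr => ?_,
      fun r hr hγr => ?_, fun d hd r hr htg hother => ?_⟩
    · have hra : r ∈ l.all := List.mem_append_left _ hr
      rcases hk : T.tg d₀ r with _ | k
      · rw [hn r hra hk, hθp r hr]
      · obtain ⟨c, -, -, e⟩ := hs r hra k hk
        rw [e, hθp r hr, hθp k ((closedB_spec hclp hr).2 k hk), mulShift_one_char, mul_one]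
    · rcases hk : T.tg d₀ r with _ | k
      · rw [hn r (hlay r hr) hk, hθh r hr hγr]
      · obtain ⟨c, -, -, e⟩ := hs r (hlay r hr) k hk
        have hlt : γ < k := by
          have := hhigh r hr
          simp only [hk, Bool.or_eq_true, Bool.not_eq_true', blt_iff] at this
          rcases this with h | h
          · exact absurd (blt_iff.2 hγr) (by simp [h])
          · exact h
        have hk1 : θ k = 1 := by
          rcases List.mem_append.1 ((closedB_spec hcl (hlay r hr)).2 k hk) with h | h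
          exacts [hθp k h, hθh k h hlt]
        rw [e, hθh r hr hγr, hk1, mulShift_one_char, mul_one]
    · by_cases hdd : d = d₀
      · subst hdd
        obtain ⟨c, hc, -, e⟩ := hs r (hlay r hr) γ htg
        rw [e, hθd d hd r hr htg hother, if_neg hd₀r, one_mul, hθγ, hc,
          if_pos List.mem_cons_self]
      · rw [hn r (hlay r hr) (hother d₀ hd₀ (Ne.symm hdd)), hθd d hd r hr htg hother]
        by_cases hm : d ∈ rest
        · rw [if_pos hm, if_pos (List.mem_cons_of_mem _ hm)]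
        · rw [if_neg hm, if_neg (by simp [hdd, hm])]

variable [FiniteDimensional ℂ V]

/-- The bound contributed by one layer. -/
theorem level_bound {l : Lev} (h : l.checkB T = true) (hL : LineAt ρ T l.node) :
    Module.finrank ℂ (fixed ρ l.all) + l.count (Fintype.card K) ≤
      Module.finrank ℂ (fixed ρ l.prev) := by
  classical
  simp only [Lev.checkB, Bool.and_eq_true, blt_iff, List.all_eq_true, List.contains_iff_mem,
    decide_eq_true_eq] at h
  obtain ⟨⟨⟨⟨⟨hn, hpos⟩, hnode⟩, hreach⟩, hnd⟩, hcells⟩ := h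
  have hSn : ∀ r ∈ l.all, r < D.nroots := fun r hr => pos_lt (L := L) (hpos r hr)
  have hbase : ∀ γ ∈ [T.smp l.node], γ ∈ l.all ∧ ∀ ψ : AddChar K ℂ, ψ ≠ 1 → ∃ v : V, v ≠ 0 ∧
      Eigen ρ l.all (fun r => if r = γ then ψ else 1) v := fun γ hγ => by
    obtain rfl := List.mem_singleton.1 hγ
    refine ⟨List.mem_append_right _ hnode, fun ψ hψ => ?_⟩
    obtain ⟨v, hv, he⟩ := hL ψ hψ
    exact ⟨v, hv, fun r hr => he r (hpos r hr)⟩
  let ι := Σ k : Fin l.cells.length, {ψ : AddChar K ℂ // ψ ≠ 1} × (Fin (l.cells.get k).2.length → K)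
  have hex : ∀ i : ι, ∃ (w : V) (θ : ℕ → AddChar K ℂ), w ≠ 0 ∧ Eigen ρ l.all θ w ∧
      θ (l.cells.get i.1).1 = i.2.1.1 ∧
      (∀ r ∈ l.prev, θ r = 1) ∧ (∀ r ∈ l.layer, (l.cells.get i.1).1 < r → θ r = 1) ∧
      ∀ m : Fin (l.cells.get i.1).2.length, ∃ r ∈ l.layer, ∀ i' : ι, ∀ hi : i'.1 = i.1,
        T.tg ((l.cells.get i.1).2.get m) r = some (l.cells.get i.1).1 ∧
        (∀ d' ∈ (l.cells.get i.1).2, d' ≠ (l.cells.get i.1).2.get m → T.tg d' r = none) ∧
        θ r = AddChar.mulShift i.2.1.1 (-(T.nn ((l.cells.get i.1).2.get m) r : K) * i.2.2 m) := by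
    rintro ⟨k, ⟨ψ, hψ⟩, u⟩
    dsimp only at u ⊢
    obtain ⟨hmem, hc⟩ := hcells _ (List.get_mem l.cells k)
    obtain ⟨v, hv, hev⟩ := reach_spec (L := L) ρ hSn l.steps [T.smp l.node] hreach hbase _
      (by simpa using hmem) ψ hψ
    have hc' := hc
    simp only [cellB, Bool.and_eq_true, List.contains_iff_mem, decide_eq_true_eq, List.all_eq_true,
      List.any_eq_true, beq_iff_eq, Bool.or_eq_true, Option.isNone_iff_eq_none] at hc'
    obtain ⟨⟨-, hnds⟩, hds⟩ := hc'
    let u' : ℕ → K := fun d =>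
      if h : ∃ m, (l.cells.get k).2.get m = d then u h.choose else 0
    have hu' : ∀ m, u' ((l.cells.get k).2.get m) = u m := fun m => by
      have h : ∃ m', (l.cells.get k).2.get m' = (l.cells.get k).2.get m := ⟨m, rfl⟩
      simp only [u', dif_pos h]
      exact congrArg u (List.nodup_iff_injective_get.1 hnds h.choose_spec)
    obtain ⟨w, θ, hw, hθ, hγ, hp, hh, hd⟩ :=
      cell_spread (L := L) ρ hc hSn hv hev u' (l.cells.get k).2 hnds fun _ hd => hd
    refine ⟨w, θ, hw, hθ, hγ, hp, hh, fun m => ?_⟩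
    obtain ⟨r, hr, htg, hoth⟩ := (hds _ (List.get_mem _ m)).2
    have hoth' : ∀ d' ∈ (l.cells.get k).2, d' ≠ (l.cells.get k).2.get m → T.tg d' r = none :=
      fun d' hd' hne => (hoth d' hd').resolve_left hne
    exact ⟨r, hr, fun _ _ => ⟨htg, hoth', by
      rw [hd _ (List.get_mem _ m) r hr htg hoth', if_pos (List.get_mem _ m), hu']⟩⟩
  choose w θ hw hθ hγ hp hh hd using hex
  have hcount : Fintype.card ι = l.count (Fintype.card K) := by
    simp only [ι, Fintype.card_sigma, Fintype.card_prod, Fintype.card_fun, Fintype.card_fin,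
      Fintype.card_subtype_compl, Fintype.card_subtype_eq, AddChar.card_eq, Lev.count]
    rw [← List.sum_ofFn]
    congr 1
    conv_rhs => rw [← List.ofFn_get l.cells, List.map_ofFn]
    rfl
  rw [← hcount]
  refine finrank_add_card_le (κ := {r // r ∈ l.layer} × K) (fun a => ρ (X D a.1.1 a.2)) w
    (fun i a => θ i a.1.1 a.2) hw
    (fun i a => hθ i a.1.1 (List.mem_append_right _ a.1.2) a.2) ?_ (fun i => ?_)
    (fixed_anti ρ fun r hr => List.mem_append_left _ hr)
    (fun i => (hθ i).mem_fixed ρ fun r hr => ⟨List.mem_append_left _ hr, hp i r hr⟩)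
    (fun x hx a => hx _ (List.mem_append_right _ a.1.2) a.2)
  · intro i i' he
    have hθeq : ∀ r ∈ l.layer, θ i r = θ i' r := fun r hr =>
      DFunLike.ext _ _ fun t => congrFun he (⟨r, hr⟩, t)
    have hlay : ∀ k : Fin l.cells.length, (l.cells.get k).1 ∈ l.layer := fun k => by
      have := (hcells _ (List.get_mem l.cells k)).2
      simp only [cellB, Bool.and_eq_true, List.contains_iff_mem] at this
      exact this.1.1.1
    have hk : i.1 = i'.1 := by
      suffices e : (l.cells.get i.1).1 = (l.cells.get i'.1).1 by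
        have := @List.nodup_iff_injective_get.1 hnd (Fin.cast (List.length_map _).symm i.1)
          (Fin.cast (List.length_map _).symm i'.1)
          (by simpa [List.get_eq_getElem, List.getElem_map] using e)
        exact Fin.ext (congrArg Fin.val this :)
      by_contra hne
      rcases Nat.lt_or_gt_of_ne hne with hlt | hgt
      · exact i'.2.1.2 (((hγ i').symm.trans (hθeq _ (hlay i'.1)).symm).trans (hh i _ (hlay i'.1) hlt))
      · exact i.2.1.2 (((hγ i).symm.trans (hθeq _ (hlay i.1))).trans (hh i' _ (hlay i.1) hgt))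
    obtain ⟨k, ⟨ψ, hψ⟩, u⟩ := i
    obtain ⟨k', ⟨ψ', hψ'⟩, u'⟩ := i'
    obtain rfl : k = k' := hk
    obtain rfl : ψ = ψ' := (hγ ⟨k, ⟨ψ, hψ⟩, u⟩).symm.trans
      ((hθeq _ (hlay k)).trans (hγ ⟨k, ⟨ψ', hψ'⟩, u'⟩))
    congr 2
    funext m
    obtain ⟨r, hr, e⟩ := hd ⟨k, ⟨ψ, hψ⟩, u⟩ m
    obtain ⟨r', hr', e'⟩ := hd ⟨k, ⟨ψ, hψ⟩, u'⟩ m
    obtain ⟨htg, -, he1⟩ := e ⟨k, ⟨ψ, hψ⟩, u⟩ rfl
    obtain ⟨htg', -, he2⟩ := e' ⟨k, ⟨ψ, hψ⟩, u'⟩ rfl
    dsimp only at htg htg' he1 he2
    have hcell := (hcells _ (List.get_mem l.cells k)).2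
    simp only [cellB, Bool.and_eq_true, List.all_eq_true, blt_iff] at hcell
    have hdn : (l.cells.get k).2.get m < D.nroots := by
      rw [nroots_eq L.arrays]
      exact (hcell.2 _ (List.get_mem _ m)).1.1.1.1.1
    have hrn := hSn r (List.mem_append_right _ hr)
    have hrn' := hSn r' (List.mem_append_right _ hr')
    -- the two roots have the same coordinates
    have hrr : r = r' := by
      obtain ⟨c, hc⟩ : ∃ c, T.ent ((l.cells.get k).2.get m) r / 16 = c := ⟨_, rfl⟩
      refine L.facts.root_ext hrn hrn' fun j hj => ?_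
      obtain ⟨e0, e1, -⟩ := L.tg_spec hdn hrn htg
      obtain ⟨e0', e1', -⟩ := L.tg_spec hdn hrn' htg'
      have a1 := L.facts.co_add _ hdn _ hrn _
        (show tgt D _ r = some (l.cells.get k).1 by rw [tgt_eq L.arrays L.chain hdn hrn, htg]) j hj
      have a2 := L.facts.co_add _ hdn _ hrn' _
        (show tgt D _ r' = some (l.cells.get k).1 by rw [tgt_eq L.arrays L.chain hdn hrn', htg']) j hj
      linarith
    subst hrr
    rw [hθeq r hr, he2] at he1
    have hinj := AddChar.to_mulShift_inj_of_isPrimitive (AddChar.IsPrimitive.of_ne_one hψ) he1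
    obtain ⟨e0, -⟩ := L.tg_spec hdn hrn htg
    have hn0 : -(T.nn ((l.cells.get k).2.get m) r : K) ≠ 0 := by
      rcases (L.single _ hdn r hrn e0).2.1 with h | h <;> rw [h] <;> simp
    exact (mul_left_cancel₀ hn0 hinj).symm
  · obtain ⟨t, ht⟩ : ∃ t, i.2.1.1 t ≠ 1 := by
      by_contra! h
      exact i.2.1.2 (DFunLike.ext _ _ fun t => by simp [h])
    have hlay : (l.cells.get i.1).1 ∈ l.layer := by
      have := (hcells _ (List.get_mem l.cells i.1)).2
      simp only [cellB, Bool.and_eq_true, List.contains_iff_mem] at this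
      exact this.1.1.1
    exact ⟨(⟨_, hlay⟩, t), by dsimp only; rw [hγ i]; exact ht⟩

end CfsgLib.Known.LieDegree
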