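/-
The abelian subgroup of the radical of the long root parabolic: multiplicities of its characters.
-/
import Mathlib
import Cfsg.Agent.Lib.Known.LieDegree.Adjacent

set_option autoImplicit false
set_option maxHeartbeats 1000000

namespace CfsgLib.Known.LieDegree

open Cfsg.Lie CfsgLib.Chev CfsgLib.Chev.Table CfsgLib.Known.D4Degree

universe v

/-- The data of the long root parabolic. -/
structure HData where
  /-- The highest root. -/
  z : ℕ
  /-- The simple root outside its centralizer. -/
  a : ℕ
  /-- The partner of `a`. -/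
  d : ℕ
  /-- A fundamental coweight index moving the highest root. -/
  j : ℕ
  /-- Half of the radical, with `a` among it. -/
  half : List ℕ
  /-- The other half, each root with its partner. -/
  other : List (ℕ × ℕ)
  /-- A word for the reflection exchanging `a` and the highest root. -/
  word : List ℕ

/-- The roots of the abelian subgroup. -/
def HData.ab (H : HData) : List ℕ := H.z :: H.half

/-- The image of a root under a word of fundamental reflections. -/
def reflW (T : Tab) (w : List ℕ) (r : ℕ) : ℕ := w.foldr (fun i x => T.refl i x) r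

/-- The checks on the data. -/
def HData.checkB (T : Tab) (H : HData) : Bool :=
  H.ab.all (fun r => (posList T).contains r) && decide H.ab.Nodup && H.half.contains H.a &&
  Nat.blt H.j T.rank && (T.aa H.j H.z == 1 || T.aa H.j H.z == -1) &&
  H.ab.all (fun r => H.ab.all fun s => Nat.beq (T.ent r s) 0 && !(s == T.neg r)) &&
  H.half.all (fun h => H.other.any fun p => (p.2 == h) && Nat.blt p.1 T.nroots &&
    (T.tg p.1 h == some H.z) && H.ab.all fun r => !(r == T.neg p.1) &&
      ((r == h) || (T.tg p.1 r).isNone)) &&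
  H.word.all (fun i => Nat.blt i T.rank) &&
  H.ab.all (fun r => H.ab.contains (reflW T H.word r) &&
    (reflW T H.word.reverse (reflW T H.word r) == r)) &&
  (reflW T H.word H.z == H.a)

variable {D : ChevalleyDatum} {T : Tab} {L : LCtx.{v} D T} {K : Type v} [Field K]

include L in
theorem exists_word : ∀ w : List ℕ, (∀ i ∈ w, i < D.rank) →
    ∃ (g : ↥(D.group K)) (e : ℕ → K), ∀ s < D.nroots, reflW T w s < D.nroots ∧
      e s ≠ 0 ∧ ∀ t : K, g * X D s t * g⁻¹ = X D (reflW T w s) (e s * t) := by
  intro w
  induction w with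
  | nil => exact fun _ => ⟨1, fun _ => 1, fun s hs => ⟨hs, one_ne_zero, fun t => by simp [reflW]⟩⟩
  | cons i w ih =>
    intro h
    obtain ⟨g, e, hg⟩ := ih fun i hi => h i (List.mem_cons_of_mem _ hi)
    obtain ⟨n, η, hn⟩ := L.exists_N (K := K) (h i List.mem_cons_self)
    refine ⟨n * g, fun s => η (reflW T w s) * e s, fun s hs => ?_⟩
    obtain ⟨h1, h2, h3⟩ := hg s hs
    obtain ⟨h4, h5, h6⟩ := hn _ h1
    have hη : η (reflW T w s) ≠ 0 := by rcases h5 with h | h <;> simp [h]
    refine ⟨h4, mul_ne_zero hη h2, fun t => ?_⟩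
    rw [show n * g * X D s t * (n * g)⁻¹ = n * (g * X D s t * g⁻¹) * n⁻¹ by group, h3, h6, mul_assoc]
    rfl

/-- What the checks give. -/
structure HFacts (D : ChevalleyDatum) (T : Tab) (H : HData) : Prop where
  pos : ∀ r ∈ H.ab, r ∈ posList T
  nodup : H.ab.Nodup
  a_mem : H.a ∈ H.half
  j_lt : H.j < D.rank
  j_z : T.aa H.j H.z = 1 ∨ T.aa H.j H.z = -1
  comm : ∀ r ∈ H.ab, ∀ s ∈ H.ab, T.ent r s = 0 ∧ s ≠ T.neg r
  partner : ∀ h ∈ H.half, ∃ c < D.nroots, T.tg c h = some H.z ∧
    ∀ r ∈ H.ab, r ≠ T.neg c ∧ (r = h ∨ T.tg c r = none)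
  word_lt : ∀ i ∈ H.word, i < D.rank
  word_ab : ∀ r ∈ H.ab, reflW T H.word r ∈ H.ab ∧ reflW T H.word.reverse (reflW T H.word r) = r
  word_z : reflW T H.word H.z = H.a

include L in
theorem hfacts_of_check {H : HData} (h : H.checkB T = true) : HFacts D T H := by
  simp only [HData.checkB, Bool.and_eq_true, List.all_eq_true, List.contains_iff_mem,
    decide_eq_true_eq, blt_iff, beq_iff_eq, Bool.or_eq_true, List.any_eq_true, Bool.not_eq_true',
    beq_eq_false_iff_ne, Option.isNone_iff_eq_none] at h
  obtain ⟨⟨⟨⟨⟨⟨⟨⟨⟨h1, h2⟩, h3⟩, h4⟩, h5⟩, h6⟩, h7⟩, h8⟩, h9⟩, h10⟩ := h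
  refine ⟨h1, h2, h3, rank_eq L.arrays ▸ h4, h5,
    fun r hr s hs => ⟨Nat.eq_of_beq_eq_true (h6 r hr s hs).1, (h6 r hr s hs).2⟩, fun h hh => ?_,
    fun i hi => rank_eq L.arrays ▸ h8 i hi, h9, h10⟩
  obtain ⟨p, -, ⟨⟨hp2, hp1⟩, hp3⟩, hp4⟩ := h7 h hh
  exact ⟨p.1, (nroots_eq L.arrays).symm ▸ hp1, hp3, hp4⟩

/-- The index type of the abelian subgroup. -/
abbrev HIdx (H : HData) : Type := Fin H.ab.length

theorem ab_ne (H : HData) : 0 < H.ab.length := Nat.succ_pos _

/-- The index of the highest root. -/
def zIdx (H : HData) : HIdx H := ⟨0, ab_ne H⟩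

theorem get_zIdx (H : HData) : H.ab.get (zIdx H) = H.z := rfl

variable {H : HData}

section Group

variable (hH : HFacts D T H)
include L hH

/-- The homomorphisms of the root groups. -/
noncomputable def homs (i : HIdx H) : Multiplicative K →* ↥(D.group K) where
  toFun t := X D (H.ab.get i) t.toAdd
  map_one' := L.X_zero (pos_lt (L := L) (hH.pos _ (List.get_mem _ i)))
  map_mul' s t := L.X_add (pos_lt (L := L) (hH.pos _ (List.get_mem _ i))) s.toAdd t.toAdd

/-- The parametrisation of the abelian subgroup. -/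
noncomputable def abEl (f : HIdx H → K) : ↥(D.group K) :=
  MonoidHom.noncommPiCoprod (homs (L := L) hH)
    (fun i j _ x y => L.X_commute (pos_lt (L := L) (hH.pos _ (List.get_mem _ i)))
      (pos_lt (L := L) (hH.pos _ (List.get_mem _ j)))
      (hH.comm _ (List.get_mem _ i) _ (List.get_mem _ j)).1
      (hH.comm _ (List.get_mem _ i) _ (List.get_mem _ j)).2 x.toAdd y.toAdd)
    (fun i => Multiplicative.ofAdd (f i))

theorem abEl_add (f f' : HIdx H → K) :
    abEl (L := L) hH (f + f') = abEl (L := L) hH f * abEl (L := L) hH f' := by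
  rw [abEl, abEl, abEl, ← map_mul]
  rfl

theorem abEl_single (i : HIdx H) (t : K) :
    abEl (L := L) hH (Pi.single i t) = X D (H.ab.get i) t := by
  have e : (fun j => Multiplicative.ofAdd ((Pi.single i t : HIdx H → K) j)) =
      Pi.mulSingle i (Multiplicative.ofAdd t) := by
    funext j
    rcases eq_or_ne j i with rfl | h
    · simp
    · simp [h]
  rw [abEl, e]
  exact MonoidHom.noncommPiCoprod_mulSingle (N := fun _ : HIdx H => Multiplicative K)
    (ϕ := homs (L := L) hH) i (Multiplicative.ofAdd t)

theorem abEl_zero : abEl (L := L) hH (0 : HIdx H → K) = 1 := by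
  have := abEl_add (L := L) hH (0 : HIdx H → K) 0
  rwa [add_zero, left_eq_mul] at this

/-- A statement about the abelian subgroup is checked on the root groups. -/
theorem abEl_induction {P : (HIdx H → K) → Prop} (h0 : P 0) (hadd : ∀ f g, P f → P g → P (f + g))
    (hs : ∀ i t, P (Pi.single i t)) (f : HIdx H → K) : P f := by
  have _ := hH
  have _ := L
  rw [← Finset.univ_sum_single f]
  exact Finset.sum_induction _ P hadd h0 fun i _ => hs i (f i)

end Group

variable [Fintype K] {V : Type*} [AddCommGroup V] [Module ℂ V]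
  (ρ : Representation ℂ ↥(D.group K) V)

/-- A character of the abelian subgroup from its components. -/
noncomputable def piChar (θ : HIdx H → AddChar K ℂ) : AddChar (HIdx H → K) ℂ where
  toFun f := ∏ i, θ i (f i)
  map_zero_eq_one' := Finset.prod_eq_one fun i _ => AddChar.map_zero_eq_one _
  map_add_eq_mul' f g := by
    rw [← Finset.prod_mul_distrib]
    exact Finset.prod_congr rfl fun i _ => AddChar.map_add_eq_mul _ _ _

theorem piChar_single (θ : HIdx H → AddChar K ℂ) (i : HIdx H) (t : K) :
    piChar θ (Pi.single i t) = θ i t := by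
  show ∏ j, θ j ((Pi.single i t : HIdx H → K) j) = θ i t
  rw [Finset.prod_eq_single i (fun j _ hj => by rw [Pi.single_eq_of_ne hj, AddChar.map_zero_eq_one])
    (by simp), Pi.single_eq_same]

theorem piChar_bijective :
    Function.Bijective (piChar : (HIdx H → AddChar K ℂ) → AddChar (HIdx H → K) ℂ) := by
  classical
  rw [Fintype.bijective_iff_injective_and_card]
  refine ⟨fun θ θ' h => funext fun i => DFunLike.ext _ _ fun t => ?_, by
    simp [Fintype.card_fun]⟩
  rw [← piChar_single θ, ← piChar_single θ', h]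

variable (hH : HFacts D T H)
include L hH

/-- The operators of the abelian subgroup. -/
noncomputable def opA (f : HIdx H → K) : Module.End ℂ V := ρ (abEl (L := L) hH f)

omit [Fintype K] in
theorem opA_add (f g : HIdx H → K) :
    opA (L := L) ρ hH f * opA (L := L) ρ hH g = opA (L := L) ρ hH (f + g) := by
  rw [opA, opA, opA, ← map_mul, abEl_add]

omit [Fintype K] in
theorem opA_zero : opA (L := L) ρ hH (0 : HIdx H → K) = 1 := by
  rw [opA, abEl_zero, map_one]

/-- The projection of a character given by components. -/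
noncomputable def prA (θ : HIdx H → AddChar K ℂ) : Module.End ℂ V :=
  proj (opA (L := L) ρ hH) (piChar θ)

/-- The multiplicity of a character given by components. -/
noncomputable def mA (θ : HIdx H → AddChar K ℂ) : ℕ :=
  mult (opA (L := L) ρ hH) (piChar θ)

variable [FiniteDimensional ℂ V]

/-- An element normalising the abelian subgroup preserves multiplicities. -/
theorem mA_move (g : ↥(D.group K)) (e : (HIdx H → K) →+ (HIdx H → K))
    (he : Function.Bijective e)
    (hg : ∀ i t, g * X D (H.ab.get i) t * g⁻¹ = abEl (L := L) hH (e (Pi.single i t)))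
    (θ θ' : HIdx H → AddChar K ℂ) (hθ : ∀ i t, θ i t = piChar θ' (e (Pi.single i t))) :
    mA (L := L) ρ hH θ = mA (L := L) ρ hH θ' := by
  have hgf : ∀ f, g * abEl (L := L) hH f * g⁻¹ = abEl (L := L) hH (e f) :=
    abEl_induction (L := L) hH (by rw [map_zero, abEl_zero, mul_one, mul_inv_cancel])
      (fun f f' h h' => by
        rw [abEl_add, map_add, abEl_add, ← h, ← h']
        group)
      (fun i t => by rw [abEl_single, hg])
  have hχ : ∀ f, piChar θ f = piChar θ' (e f) :=
    abEl_induction (L := L) hH (by simp [AddChar.map_zero_eq_one])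
      (fun f f' h h' => by rw [map_add e, AddChar.map_add_eq_mul, AddChar.map_add_eq_mul, h, h'])
      (fun i t => by rw [piChar_single, hθ])
  refine mult_congr (opA_add (L := L) ρ hH) (S := ρ g) (T := ρ g⁻¹)
    (by rw [← map_mul, mul_inv_cancel, map_one]) (by rw [← map_mul, inv_mul_cancel, map_one])
    (conj_proj (by rw [← map_mul, inv_mul_cancel, map_one]) he (fun f => ?_) _ _ fun f => ?_)
  · rw [opA, opA, ← map_mul, ← map_mul, hgf]
  · rw [hχ, map_neg]

theorem z_ne {i : HIdx H} (hi : H.ab.get i ∈ H.half) : i ≠ zIdx H := by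
  intro h
  rw [h, get_zIdx] at hi
  exact (List.nodup_cons.1 hH.nodup).1 hi

/-- Translations remove one component of a character non-trivial on the centre. -/
theorem mA_update {θ : HIdx H → AddChar K ℂ} (hz : θ (zIdx H) ≠ 1) {i : HIdx H} (hi : i ≠ zIdx H) :
    mA (L := L) ρ hH (Function.update θ i 1) = mA (L := L) ρ hH θ := by
  classical
  have hih : H.ab.get i ∈ H.half := by
    have := List.get_mem H.ab i
    rcases List.mem_cons.1 this with h | h
    · exact absurd (List.nodup_iff_injective_get.1 hH.nodup (h.trans (get_zIdx H).symm)) hi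
    · exact h
  obtain ⟨c, hcn, htg, hoth⟩ := hH.partner _ hih
  have hin := pos_lt (L := L) (hH.pos _ (List.get_mem _ i))
  obtain ⟨s, hs, -, hcj⟩ := L.X_conj (K := K) hcn hin htg
  obtain ⟨u₀, hu₀⟩ := exists_mulShift hz (θ i)
  have hs0 : s ≠ 0 := by rcases hs with rfl | rfl <;> simp
  set u := u₀ / s with hu
  let e : (HIdx H → K) →+ (HIdx H → K) :=
    { toFun := fun f => f + Pi.single (zIdx H) (s * u * f i)
      map_zero' := by simp
      map_add' := fun f g => by
        rw [Pi.add_apply, mul_add, Pi.single_add]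
        abel }
  have he : Function.Bijective e := by
    refine Finite.injective_iff_bijective.1 fun f g h => ?_
    have hi' := congrFun h i
    simp only [e, AddMonoidHom.coe_mk, ZeroHom.coe_mk, Pi.add_apply, Pi.single_eq_of_ne hi,
      add_zero] at hi'
    simp only [e, AddMonoidHom.coe_mk, ZeroHom.coe_mk, hi'] at h
    exact add_right_cancel h
  refine (mA_move (L := L) ρ hH (X D c u) e he (fun l t => ?_) θ (Function.update θ i 1)
    (fun l t => ?_)).symm
  · simp only [e, AddMonoidHom.coe_mk, ZeroHom.coe_mk, abEl_add, abEl_single]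
    rcases eq_or_ne l i with rfl | hl
    · rw [Pi.single_eq_same, hcj, get_zIdx]
    · rw [Pi.single_eq_of_ne (Ne.symm hl), mul_zero, L.X_zero (pos_lt (L := L)
        (hH.pos _ (List.get_mem _ _))), mul_one]
      obtain ⟨hne, h⟩ := hoth _ (List.get_mem _ l)
      exact L.X_conj_same hcn (pos_lt (L := L) (hH.pos _ (List.get_mem _ l)))
        (L.tg_none (h.resolve_left fun h => hl (List.nodup_iff_injective_get.1 hH.nodup h))) hne u t
  · simp only [e, AddMonoidHom.coe_mk, ZeroHom.coe_mk, AddChar.map_add_eq_mul, piChar_single,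
      Function.update_of_ne (Ne.symm hi)]
    rcases eq_or_ne l i with rfl | hl
    · rw [Function.update_self, AddChar.one_apply, one_mul, Pi.single_eq_same, hu₀,
        AddChar.mulShift_apply, hu]
      rw [show s * (u₀ / s) * t = u₀ * t by field_simp]
    · rw [Function.update_of_ne hl, Pi.single_eq_of_ne (Ne.symm hl), mul_zero,
        AddChar.map_zero_eq_one, mul_one]

end CfsgLib.Known.LieDegree
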