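/-
The common multiplicity of the characters of the abelian subgroup and the dimension of the fixed space
of the highest root group.
-/
import Mathlib
import Cfsg.Agent.Lib.Known.LieDegree.Heis

set_option autoImplicit false
set_option maxHeartbeats 1000000

namespace CfsgLib.Known.LieDegree

open Cfsg.Lie CfsgLib.Chev CfsgLib.Chev.Table CfsgLib.Known.D4Degree

universe v

theorem card_filter_fixed {ι α : Type*} [Fintype ι] [DecidableEq ι] [Fintype α] [DecidableEq α]
    (s : Finset ι) (c : ι → α) :
    (Finset.univ.filter fun θ : ι → α => ∀ i ∈ s, θ i = c i).card =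
      Fintype.card α ^ (Fintype.card ι - s.card) := by
  rw [← Fintype.card_subtype]
  have e : {θ : ι → α // ∀ i ∈ s, θ i = c i} ≃ ({i : ι // i ∉ s} → α) :=
    { toFun := fun θ i => θ.1 i.1
      invFun := fun g => ⟨fun i => if h : i ∈ s then c i else g ⟨i, h⟩, fun i hi => by simp [hi]⟩
      left_inv := fun θ => Subtype.ext (funext fun i => by
        by_cases h : i ∈ s
        · simp [h, θ.2 i h]
        · simp [h])
      right_inv := fun g => funext fun i => by simp [i.2] }
  rw [Fintype.card_congr e, Fintype.card_fun, Fintype.card_subtype_compl, Fintype.card_coe]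

variable {D : ChevalleyDatum} {T : Tab} {L : LCtx.{v} D T} {K : Type v} [Field K] [Fintype K]
  {H : HData} {V : Type*} [AddCommGroup V] [Module ℂ V]
  (ρ : Representation ℂ ↥(D.group K) V) [FiniteDimensional ℂ V] (hH : HFacts D T H)

include L hH

/-- A monomial element permutes the components of a character. -/
theorem mA_monomial (g : ↥(D.group K)) (σ : Equiv.Perm (HIdx H)) (c : HIdx H → K)
    (hc : ∀ i, c i ≠ 0)
    (hg : ∀ i t, g * X D (H.ab.get i) t * g⁻¹ = X D (H.ab.get (σ i)) (c i * t))
    (θ : HIdx H → AddChar K ℂ) :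
    mA (L := L) ρ hH (fun i => AddChar.mulShift (θ (σ i)) (c i)) = mA (L := L) ρ hH θ := by
  let e : (HIdx H → K) →+ (HIdx H → K) :=
    { toFun := fun f k => c (σ.symm k) * f (σ.symm k)
      map_zero' := by funext k; simp
      map_add' := fun f g => by funext k; simp [mul_add] }
  have he : Function.Bijective e := by
    refine Finite.injective_iff_bijective.1 fun f g h => funext fun i => ?_
    have hk := congrFun h (σ i)
    simp only [e, AddMonoidHom.coe_mk, ZeroHom.coe_mk, Equiv.symm_apply_apply] at hk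
    exact mul_left_cancel₀ (hc i) hk
  have hs : ∀ i t, e (Pi.single i t) = Pi.single (σ i) (c i * t) := fun i t => by
    funext k
    simp only [e, AddMonoidHom.coe_mk, ZeroHom.coe_mk]
    rcases eq_or_ne k (σ i) with rfl | hk
    · simp
    · rw [Pi.single_eq_of_ne hk, Pi.single_eq_of_ne (fun h => hk (by rw [← h, Equiv.apply_symm_apply])),
        mul_zero]
  refine mA_move (L := L) ρ hH g e he (fun i t => ?_) _ θ fun i t => ?_
  · rw [hg, hs, abEl_single]
  · rw [hs, piChar_single, AddChar.mulShift_apply]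

/-- Characters non-trivial on the highest root group only depend on that component. -/
theorem mA_reduce {θ : HIdx H → AddChar K ℂ} (hz : θ (zIdx H) ≠ 1) :
    mA (L := L) ρ hH (Pi.mulSingle (zIdx H) (θ (zIdx H))) = mA (L := L) ρ hH θ := by
  classical
  have key : ∀ s : Finset (HIdx H), zIdx H ∉ s →
      mA (L := L) ρ hH (fun i => if i ∈ s then 1 else θ i) = mA (L := L) ρ hH θ := by
    intro s
    induction s using Finset.induction_on with
    | empty => intro _; simp
    | insert i s his ih =>
      intro hz'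
      simp only [Finset.mem_insert, not_or] at hz'
      rw [← ih hz'.2]
      have e : (fun k => if k ∈ insert i s then 1 else θ k) =
          Function.update (fun k => if k ∈ s then 1 else θ k) i 1 := by
        funext k
        rcases eq_or_ne k i with rfl | hk
        · simp
        · simp [hk]
      rw [e]
      exact mA_update (L := L) ρ hH (by simpa [hz'.2] using hz) (Ne.symm hz'.1)
  have := key (Finset.univ.erase (zIdx H)) (by simp)
  rw [← this]
  congr 1
  funext i
  rcases eq_or_ne i (zIdx H) with rfl | hi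
  · simp
  · simp [hi]

/-- All characters non-trivial on the highest root group, or on the simple one, occur equally often. -/
theorem exists_common (hinj : Function.Injective ρ) {ia : HIdx H} (hia : H.ab.get ia = H.a) :
    ∃ r, 1 ≤ r ∧ ∀ θ : HIdx H → AddChar K ℂ, (θ (zIdx H) ≠ 1 ∨ θ ia ≠ 1) →
      mA (L := L) ρ hH θ = r := by
  classical
  obtain ⟨ψ, hψ⟩ := addChar_ne_one_exists (K := K)
  have habn : ∀ i : HIdx H, H.ab.get i < D.nroots := fun i =>
    pos_lt (L := L) (hH.pos _ (List.get_mem _ i))
  have hz : ∀ θ : HIdx H → AddChar K ℂ, θ (zIdx H) ≠ 1 →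
      mA (L := L) ρ hH θ = mA (L := L) ρ hH (Pi.mulSingle (zIdx H) ψ) := by
    intro θ hθ
    obtain ⟨w, hw⟩ := exists_scale hψ hθ
    obtain ⟨u, hu⟩ : ∃ u : Kˣ, u ^ T.aa H.j H.z = w := by
      rcases hH.j_z with h | h
      · exact ⟨w, by rw [h, zpow_one]⟩
      · exact ⟨w⁻¹, by rw [h, zpow_neg, zpow_one, inv_inv]⟩
    obtain ⟨g, hg⟩ := L.exists_H (K := K) hH.j_lt u
    rw [← mA_reduce (L := L) ρ hH hθ]
    refine Eq.trans ?_ (mA_monomial (L := L) ρ hH g 1
      (fun i => ((u ^ T.aa H.j (H.ab.get i) : Kˣ) : K)) (fun i => Units.ne_zero _)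
      (fun i t => hg _ (habn i) t) (Pi.mulSingle (zIdx H) ψ))
    congr 1
    funext i
    rcases eq_or_ne i (zIdx H) with rfl | hi
    · rw [Equiv.Perm.one_apply, Pi.mulSingle_eq_same, Pi.mulSingle_eq_same, hw, get_zIdx, hu]
    · rw [Equiv.Perm.one_apply, Pi.mulSingle_eq_of_ne hi, Pi.mulSingle_eq_of_ne hi, mulShift_one_char]
  refine ⟨mA (L := L) ρ hH (Pi.mulSingle (zIdx H) ψ), ?_, fun θ h => ?_⟩
  · by_contra hlt
    have h0 : ∀ θ : HIdx H → AddChar K ℂ, θ (zIdx H) ≠ 1 →
        proj (opA (L := L) ρ hH) (piChar θ) = 0 := fun θ hθ => proj_eq_zero (by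
      have := hz θ hθ
      simp only [mA] at this hlt
      omega)
    have h1 : opA (L := L) ρ hH (Pi.single (zIdx H) (1 : K)) = 1 := by
      have hR0 := opA_zero (L := L) ρ hH
      calc opA (L := L) ρ hH (Pi.single (zIdx H) (1 : K))
          = opA (L := L) ρ hH (Pi.single (zIdx H) 1) * ∑ χ, proj (opA (L := L) ρ hH) χ := by
            rw [sum_proj hR0, mul_one]
        _ = ∑ χ, proj (opA (L := L) ρ hH) χ := by
          rw [Finset.mul_sum]
          refine Finset.sum_congr rfl fun χ _ => ?_
          obtain ⟨θ, rfl⟩ := piChar_bijective.2 χ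
          by_cases hθ : θ (zIdx H) = 1
          · rw [mul_proj (opA_add (L := L) ρ hH), piChar_single, hθ, AddChar.one_apply, one_smul]
          · rw [h0 θ hθ, mul_zero]
        _ = 1 := sum_proj hR0
    rw [opA, ← map_one ρ, abEl_single, get_zIdx] at h1
    exact one_ne_zero (L.X_eq_one (habn (zIdx H)) (hinj h1))
  · by_cases hθ : θ (zIdx H) = 1
    swap
    · exact hz θ hθ
    have ha : θ ia ≠ 1 := h.resolve_left (not_not_intro hθ)
    obtain ⟨g, e, hg⟩ := exists_word (L := L) (K := K) H.word hH.word_lt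
    have hmem : ∀ i : HIdx H, ∃ k : HIdx H, H.ab.get k = reflW T H.word (H.ab.get i) :=
      fun i => List.mem_iff_get.1 (hH.word_ab _ (List.get_mem _ i)).1
    choose f hf using hmem
    have hnd := List.nodup_iff_injective_get.1 hH.nodup
    have hfi : Function.Injective f := fun i k h => hnd (by
      rw [← (hH.word_ab _ (List.get_mem _ i)).2, ← hf i, h, hf k, (hH.word_ab _ (List.get_mem _ k)).2])
    let σ := Equiv.ofBijective f (Finite.injective_iff_bijective.1 hfi)
    have hσz : σ (zIdx H) = ia := hnd (by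
      show H.ab.get (f (zIdx H)) = _
      rw [hf, get_zIdx, hH.word_z, hia])
    rw [← mA_monomial (L := L) ρ hH g σ (fun i => e (H.ab.get i)) (fun i => (hg _ (habn i)).2.1)
      (fun i t => by rw [(hg _ (habn i)).2.2 t, ← hf i]; rfl) θ]
    exact hz _ (by rw [hσz]; exact mulShift_ne_one ha (hg _ (habn _)).2.1)

omit [FiniteDimensional ℂ V] in
theorem card_compl_one : Fintype.card {θ : AddChar K ℂ // θ ≠ 1} = Fintype.card K - 1 := by
  classical
  rw [Fintype.card_subtype_compl, Fintype.card_subtype_eq, AddChar.card_eq]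

/-- The dimension splits off the characters non-trivial on the highest root group. -/
theorem finrank_fixed_z (hinj : Function.Injective ρ) {ia : HIdx H} (hia : H.ab.get ia = H.a) :
    ∃ r, 1 ≤ r ∧
      (∀ θ : HIdx H → AddChar K ℂ, (θ (zIdx H) ≠ 1 ∨ θ ia ≠ 1) → mA (L := L) ρ hH θ = r) ∧
      Module.finrank ℂ (fixed ρ [H.z]) + r * ((Fintype.card K - 1) * Fintype.card K ^ H.half.length) =
        Module.finrank ℂ V ∧
      r * ((Fintype.card K - 1) * Fintype.card K ^ (H.half.length - 1)) ≤
        Module.finrank ℂ (fixed ρ [H.z]) ∧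
      LinearMap.trace ℂ V (ρ (X D H.z (1 : K))) + r * (Fintype.card K : ℂ) ^ H.half.length =
        Module.finrank ℂ (fixed ρ [H.z]) := by
  classical
  obtain ⟨r, hr1, hr⟩ := exists_common (L := L) ρ hH hinj hia
  refine ⟨r, hr1, hr, ?_⟩
  set q := Fintype.card K with hq
  set m := H.half.length
  set R := opA (L := L) ρ hH with hR
  have hadd := opA_add (L := L) ρ hH
  have hR0 := opA_zero (L := L) ρ hH
  set z := zIdx H
  have hz : ∀ t : K, ρ (X D H.z t) = R (Pi.single z t) := fun t => by
    rw [hR, opA, abEl_single, get_zIdx]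
  have hpr : ∀ (θ : HIdx H → AddChar K ℂ) (t : K),
      ρ (X D H.z t) * proj R (piChar θ) = θ z t • proj R (piChar θ) := fun θ t => by
    rw [hz, mul_proj hadd, piChar_single]
  set S := Finset.univ.filter fun θ : HIdx H → AddChar K ℂ => θ z = 1 with hS
  set E : Module.End ℂ V := ∑ θ ∈ S, proj R (piChar θ) with hE
  have hall : ∑ θ : HIdx H → AddChar K ℂ, proj R (piChar θ) = 1 := by
    rw [Function.Bijective.sum_comp piChar_bijective (fun χ => proj R χ), sum_proj hR0]
  have hproj : LinearMap.IsProj (fixed ρ [H.z]) E := by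
    refine ⟨fun v => ?_, fun v hv => ?_⟩
    · rw [mem_fixed]
      intro r hr t
      rw [List.mem_singleton.1 hr, hE, LinearMap.sum_apply, map_sum]
      refine Finset.sum_congr rfl fun θ hθ => ?_
      rw [← Module.End.mul_apply, hpr, (Finset.mem_filter.1 hθ).2, AddChar.one_apply, one_smul]
    · conv_rhs => rw [← Module.End.one_apply (R := ℂ) v, ← hall]
      rw [hE, LinearMap.sum_apply, LinearMap.sum_apply]
      refine Finset.sum_subset (Finset.subset_univ _) fun θ _ hθ => ?_
      obtain ⟨t, ht⟩ : ∃ t, θ z t ≠ 1 := by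
        by_contra! h
        exact hθ (Finset.mem_filter.2 ⟨Finset.mem_univ _, DFunLike.ext _ _ fun t => by simp [h]⟩)
      have e1 : proj R (piChar θ) v = θ z t • proj R (piChar θ) v := by
        calc proj R (piChar θ) v = proj R (piChar θ) (ρ (X D H.z t) v) := by
              rw [hv _ (List.mem_singleton_self _) t]
          _ = _ := by
              rw [hz, ← Module.End.mul_apply, proj_mul hadd, piChar_single, LinearMap.smul_apply]
      have e2 : (θ z t - 1) • proj R (piChar θ) v = 0 := by rw [sub_smul, one_smul, ← e1, sub_self]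
      exact (smul_eq_zero.1 e2).resolve_left (sub_ne_zero.2 ht)
  have hfix : Module.finrank ℂ (fixed ρ [H.z]) = ∑ θ ∈ S, mult R (piChar θ) := by
    have := hproj.trace
    rw [hE, map_sum] at this
    rw [Finset.sum_congr rfl fun θ _ => trace_proj hadd (piChar θ)] at this
    exact_mod_cast this.symm
  have hnz : ∀ θ ∈ Sᶜ, mult R (piChar θ) = r := fun θ hθ =>
    hr θ (Or.inl (by simpa [hS] using hθ))
  have hn : Fintype.card (HIdx H) = m + 1 := by simp [HData.ab, m]
  have hcard : ∀ γ : AddChar K ℂ,
      (Finset.univ.filter fun θ : HIdx H → AddChar K ℂ => θ z = γ).card = q ^ m := fun γ => by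
    have := card_filter_fixed {z} (fun _ : HIdx H => γ)
    simp only [Finset.mem_singleton, forall_eq, Finset.card_singleton, AddChar.card_eq, hn,
      Nat.add_sub_cancel] at this
    exact this
  have hScard : S.card = q ^ m := hcard 1
  have hm : 1 ≤ m := List.length_pos_of_mem hH.a_mem
  have hza : ia ≠ z := z_ne (L := L) hH (hia ▸ hH.a_mem)
  have hq1 : 1 ≤ q := Fintype.card_pos
  have hqm : (q - 1) * q ^ m + q ^ m = q * q ^ m := by
    rw [← Nat.succ_mul, Nat.succ_eq_add_one, Nat.sub_add_cancel hq1]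
  have htot : Module.finrank ℂ V =
      (∑ θ ∈ S, mult R (piChar θ)) + Sᶜ.card * r := by
    rw [← sum_mult hadd hR0, ← Function.Bijective.sum_comp piChar_bijective (fun χ => mult R χ),
      ← Finset.sum_add_sum_compl S, Finset.sum_congr rfl hnz, Finset.sum_const, smul_eq_mul]
  have hcompl : Sᶜ.card = (q - 1) * q ^ m := by
    rw [Finset.card_compl, Fintype.card_fun, AddChar.card_eq, hScard, hn, pow_succ, mul_comm (q ^ m),
      ← hq]
    omega
  refine ⟨?_, ?_, ?_⟩
  · rw [hfix, htot, hcompl]; ring
  · rw [hfix]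
    set S' := Finset.univ.filter fun θ : HIdx H → AddChar K ℂ => θ z = 1 ∧ θ ia = 1 with hS'
    have hsub : S' ⊆ S := Finset.monotone_filter_right _ fun θ _ h => h.1
    have hS'card : S'.card = q ^ (m - 1) := by
      have := card_filter_fixed {z, ia} (fun _ : HIdx H => (1 : AddChar K ℂ))
      simp only [Finset.mem_insert, Finset.mem_singleton, forall_eq_or_imp, forall_eq,
        Finset.card_pair hza.symm, AddChar.card_eq, hn] at this
      rw [hS', this]
      rfl
    refine le_trans (le_of_eq ?_) (Finset.sum_le_sum_of_subset (Finset.sdiff_subset (t := S')))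
    rw [Finset.sum_congr rfl (g := fun _ => r), Finset.sum_const, smul_eq_mul,
      Finset.card_sdiff_of_subset hsub, hScard, hS'card]
    · have e : q ^ m = q * q ^ (m - 1) := by
        rw [← pow_succ', Nat.sub_add_cancel hm]
      rw [e, mul_comm r, Nat.sub_mul, one_mul]
    · intro θ hθ
      obtain ⟨h1, h2⟩ := Finset.mem_sdiff.1 hθ
      refine hr θ (Or.inr fun h => h2 (Finset.mem_filter.2 ⟨Finset.mem_univ _, ?_, h⟩))
      exact (Finset.mem_filter.1 h1).2
  · have e0 : ρ (X D H.z (1 : K)) = ∑ θ : HIdx H → AddChar K ℂ, θ z 1 • proj R (piChar θ) := by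
      rw [← mul_one (ρ (X D H.z (1 : K))), ← hall, Finset.mul_sum]
      exact Finset.sum_congr rfl fun θ _ => hpr θ 1
    have e1 : LinearMap.trace ℂ V (ρ (X D H.z (1 : K))) =
        ∑ θ : HIdx H → AddChar K ℂ, θ z 1 * mult R (piChar θ) := by
      rw [e0, map_sum]
      exact Finset.sum_congr rfl fun θ _ => by rw [map_smul, trace_proj hadd, smul_eq_mul]
    have e2 : ∑ θ : HIdx H → AddChar K ℂ, (θ z 1 : ℂ) = 0 := by
      rw [← Finset.sum_fiberwise Finset.univ (fun θ : HIdx H → AddChar K ℂ => θ z)]
      rw [Finset.sum_congr rfl (g := fun γ : AddChar K ℂ => ((q ^ m : ℕ) : ℂ) * γ 1) fun γ _ => by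
        rw [Finset.sum_congr rfl (g := fun _ => (γ 1 : ℂ)) fun θ hθ => by
          rw [(Finset.mem_filter.1 hθ).2], Finset.sum_const, hcard, nsmul_eq_mul]]
      rw [← Finset.mul_sum, AddChar.sum_apply_eq_ite, if_neg one_ne_zero, mul_zero]
    rw [← Finset.sum_add_sum_compl S] at e1 e2
    have hS1 : ∀ θ ∈ S, (θ z 1 : ℂ) = 1 := fun θ hθ => by
      rw [(Finset.mem_filter.1 hθ).2, AddChar.one_apply]
    rw [Finset.sum_congr rfl hS1, Finset.sum_const, nsmul_one, hScard, Nat.cast_pow] at e2
    rw [Finset.sum_congr (s₁ := S) rfl (g := fun θ => (mult R (piChar θ) : ℂ)) (fun θ hθ => by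
        rw [hS1 θ hθ, one_mul]),
      Finset.sum_congr (s₁ := Sᶜ) rfl (g := fun θ => (θ z 1 : ℂ) * r) (fun θ hθ => by rw [hnz θ hθ]),
      ← Finset.sum_mul (s := Sᶜ), eq_neg_of_add_eq_zero_right e2] at e1
    rw [e1, hfix, Nat.cast_sum]
    ring

end CfsgLib.Known.LieDegree
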