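/-
A vector fixed by every positive root group except the one of the simple root outside the long root parabolic.
-/
import Mathlib
import Cfsg.Agent.Lib.Known.LieDegree.HeisCount

set_option autoImplicit false
set_option maxHeartbeats 1000000

namespace CfsgLib.Known.LieDegree

open Cfsg.Lie CfsgLib.Chev CfsgLib.Chev.Table CfsgLib.Known.D4Degree

universe v

/-- The data for the existence of the eigenvector. -/
structure LData where
  /-- Roots written as sums of two roots acting by scalars. -/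
  kills : List (ℕ × ℕ × ℕ)
  /-- The same for the roots outside the radical, acting on the full character of the radical. -/
  kills2 : List (ℕ × ℕ × ℕ)
  /-- A root of the centralizer of the highest one. -/
  d1 : ℕ
  /-- A word for its reflection. -/
  word : List ℕ
  /-- The image of the simple root. -/
  b1 : ℕ
  /-- The image of the partner of the simple root. -/
  c1 : ℕ

/-- A root preserving the character of the roots in `S` which is non-trivial at `a`. -/
def stabS (T : Tab) (a : ℕ) (S : List ℕ) (δ : ℕ) : Bool :=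
  Nat.blt δ T.nroots && closedB T δ S && S.all fun r => !(T.tg δ r == some a)

/-- A root which acts by scalars on the line. -/
def stabB (T : Tab) (H : HData) (δ : ℕ) : Bool := stabS T H.a H.ab δ

/-- The radical. -/
def HData.radical (H : HData) : List ℕ := H.ab ++ H.other.map Prod.fst

/-- The checks on the data. -/
def LData.checkB (T : Tab) (H : HData) (M : LData) : Bool :=
  let Q := H.radical
  let δm := T.neg M.d1
  M.kills.all (fun p => stabB T H p.1 && stabB T H p.2.1 && stabB T H p.2.2 &&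
    (T.tg p.2.1 p.2.2 == some p.1)) &&
  M.kills2.all (fun p => stabS T H.a Q p.1 && stabS T H.a Q p.2.1 && stabS T H.a Q p.2.2 &&
    (T.tg p.2.1 p.2.2 == some p.1)) &&
  stabB T H H.d && Q.contains H.d && H.ab.contains M.b1 && Q.contains M.c1 &&
  Q.all (fun r => Nat.blt r T.nroots) &&
  (posList T).all (fun r => Q.contains r || (M.kills2.map Prod.fst).contains r) &&
  (H.other.map Prod.fst).all (fun r => (r == H.d) || (M.kills.map Prod.fst).contains r) &&
  Nat.blt M.d1 T.nroots && closedB T M.d1 Q && closedB T δm Q &&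
  M.word.all (fun i => Nat.blt i T.rank) &&
  Q.all (fun r => Q.contains (reflW T M.word r) &&
    (reflW T M.word.reverse (reflW T M.word r) == r)) &&
  (reflW T M.word H.a == M.b1) && (reflW T M.word H.d == M.c1) &&
  (!(M.b1 == H.a) && !(M.b1 == H.d) && !(M.b1 == M.c1) && !(M.c1 == H.a) && !(M.c1 == H.d) &&
    !(H.a == H.d)) && (Q.contains H.a) && !(H.ab.contains H.d) && !(H.ab.contains M.c1) &&
  (T.tg M.d1 H.a == some M.b1) && (T.tg δm M.b1 == some H.a) &&
  (M.c1 :: H.ab).all (fun r => (r == H.a ||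
    (!(T.tg M.d1 r == some M.b1) && !(T.tg M.d1 r == some M.c1)))) &&
  (M.c1 :: H.ab).all (fun r => (r == M.b1 ||
    (!(T.tg δm r == some H.a) && !(T.tg δm r == some H.d))))

variable {D : ChevalleyDatum} {T : Tab} {L : LCtx.{v} D T} {K : Type v} [Field K] [Fintype K]
  {H : HData} {V : Type*} [AddCommGroup V] [Module ℂ V]
  (ρ : Representation ℂ ↥(D.group K) V) [FiniteDimensional ℂ V] (hH : HFacts D T H)

/-- The character with one component. -/
noncomputable def oneAt (a : ℕ) (α : AddChar K ℂ) : ℕ → AddChar K ℂ :=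
  fun r => if r = a then α else 1

include L hH

/-- An eigenvector of the abelian subgroup lies in the range of the projection. -/
theorem prA_eigen {θ : ℕ → AddChar K ℂ} {v : V} (h : Eigen ρ H.ab θ v) :
    proj (opA (L := L) ρ hH) (piChar fun i : HIdx H => θ (H.ab.get i)) v = v := by
  classical
  set χ := piChar fun i : HIdx H => θ (H.ab.get i) with hχ
  have hf : ∀ f, opA (L := L) ρ hH f v = χ f • v :=
    abEl_induction (L := L) hH
      (by rw [opA_zero, Module.End.one_apply, AddChar.map_zero_eq_one, one_smul])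
      (fun f g hf hg => by
        rw [← opA_add, Module.End.mul_apply, hg, map_smul, hf, smul_smul, AddChar.map_add_eq_mul,
          mul_comm])
      (fun i t => by rw [opA, abEl_single, h _ (List.get_mem _ i) t, hχ, piChar_single])
  simp only [proj, LinearMap.smul_apply, LinearMap.sum_apply, hf, smul_smul]
  have e : ∀ f, χ (-f) * χ f = 1 := fun f => by
    rw [← AddChar.map_add_eq_mul, neg_add_cancel, AddChar.map_zero_eq_one]
  simp only [e, one_smul, Finset.sum_const, Finset.card_univ, ← Nat.cast_smul_eq_nsmul ℂ, smul_smul]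
  rw [inv_mul_cancel₀ (by simp [Fintype.card_ne_zero]), one_smul]

variable {ia : HIdx H} (hia : H.ab.get ia = H.a)
  (h1 : ∀ θ : HIdx H → AddChar K ℂ, (θ (zIdx H) ≠ 1 ∨ θ ia ≠ 1) → mA (L := L) ρ hH θ = 1)

include hia h1

/-- Two eigenvectors with a character non-trivial on the simple root are proportional. -/
theorem same_line {θ : ℕ → AddChar K ℂ} {v w : V} (hv : v ≠ 0) (ha : θ H.a ≠ 1)
    (h : Eigen ρ H.ab θ v) (h' : Eigen ρ H.ab θ w) : ∃ c : ℂ, w = c • v := by
  have hdim : Module.finrank ℂ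
      (LinearMap.range (proj (opA (L := L) ρ hH) (piChar fun i : HIdx H => θ (H.ab.get i)))) = 1 :=
    h1 _ (Or.inr (by rw [hia]; exact ha))
  obtain ⟨c, hc⟩ := (finrank_eq_one_iff_of_nonzero'
    (⟨v, ⟨v, prA_eigen (L := L) ρ hH h⟩⟩ : LinearMap.range _)
    (fun e => hv (congrArg Subtype.val e))).1 hdim ⟨w, ⟨w, prA_eigen (L := L) ρ hH h'⟩⟩
  exact ⟨c, (congrArg Subtype.val hc).symm⟩

/-- A stabilising root acts on the line by an additive character. -/
theorem scalar_root {α : AddChar K ℂ} (hα : α ≠ 1) {v : V} (hv : v ≠ 0) {S : List ℕ}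
    (hab : ∀ r ∈ H.ab, r ∈ S) (hSn : ∀ r ∈ S, r < D.nroots)
    (h : Eigen ρ S (oneAt H.a α) v) {δ : ℕ} (hδ : stabS T H.a S δ = true) :
    δ < D.nroots ∧ ∃ μ : AddChar K ℂ, ∀ t : K, ρ (X D δ t) v = μ t • v := by
  simp only [stabS, Bool.and_eq_true, blt_iff, List.all_eq_true, Bool.not_eq_true',
    beq_eq_false_iff_ne] at hδ
  obtain ⟨⟨hn, hcl⟩, hne⟩ := hδ
  have hδn : δ < D.nroots := (nroots_eq L.arrays).symm ▸ hn
  have hev : ∀ t, ∃ c : ℂ, ρ (X D δ t) v = c • v := fun t => by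
    obtain ⟨θ', h', hn', hs'⟩ := Eigen.step (L := L) ρ h hδn hSn hcl t
    have he : ∀ r ∈ S, θ' r = oneAt H.a α r := fun r hr => by
      rcases hk : T.tg δ r with _ | k
      · exact hn' r hr hk
      · obtain ⟨c, -, -, e⟩ := hs' r hr k hk
        have hka : k ≠ H.a := fun e => hne r hr (e ▸ hk)
        rw [e, show oneAt H.a α k = 1 from if_neg hka, mulShift_one_char, mul_one]
    exact same_line (L := L) ρ hH hia h1 hv (by simpa [oneAt] using hα)
      (fun r hr => h r (hab r hr))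
      (fun r hr u => by rw [h' r (hab r hr) u, he r (hab r hr)])
  choose μ hμ using hev
  refine ⟨hδn, ⟨μ, ?_, fun s t => ?_⟩, hμ⟩
  · have := hμ 0
    rw [L.X_zero hδn, map_one, Module.End.one_apply] at this
    exact (smul_left_injective ℂ hv (this.symm.trans (one_smul ℂ v).symm))
  · refine smul_left_injective ℂ hv ?_
    show μ (s + t) • v = (μ s * μ t) • v
    rw [← hμ, L.X_add hδn, map_mul, Module.End.mul_apply, hμ, map_smul, hμ, smul_smul, mul_comm]

/-- A sum of two stabilising roots fixes the line. -/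
theorem killed_root {α : AddChar K ℂ} (hα : α ≠ 1) {v : V} (hv : v ≠ 0) {S : List ℕ}
    (hab : ∀ r ∈ H.ab, r ∈ S) (hSn : ∀ r ∈ S, r < D.nroots)
    (h : Eigen ρ S (oneAt H.a α) v) {p : ℕ × ℕ × ℕ}
    (hp : ((stabS T H.a S p.1 = true ∧ stabS T H.a S p.2.1 = true) ∧ stabS T H.a S p.2.2 = true) ∧
      T.tg p.2.1 p.2.2 = some p.1) (t : K) : ρ (X D p.1 t) v = v := by
  obtain ⟨⟨⟨h0, h1'⟩, h2⟩, htg⟩ := hp
  obtain ⟨-, μ, hμ⟩ := scalar_root (L := L) ρ hH hia h1 hα hv hab hSn h h0
  obtain ⟨a1, μ1, hμ1⟩ := scalar_root (L := L) ρ hH hia h1 hα hv hab hSn h h1'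
  obtain ⟨a2, μ2, hμ2⟩ := scalar_root (L := L) ρ hH hia h1 hα hv hab hSn h h2
  obtain ⟨c, hc, -, hcj⟩ := L.X_conj (K := K) a1 a2 htg
  have hc0 : c ≠ 0 := by rcases hc with rfl | rfl <;> simp
  have e := congrArg (fun g => ρ g v) (hcj 1 (t / c))
  have ec : c * 1 * (t / c) = t := by field_simp
  rw [ec] at e
  simp only [map_mul, Module.End.mul_apply, L.X_inv a1, hμ, hμ1, hμ2, map_smul, smul_smul] at e
  have e' := smul_left_injective ℂ hv e
  rw [hμ t]
  have hne2 : (μ2 (t / c) : ℂ) ≠ 0 := (AddChar.val_isUnit μ2 _).ne_zero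
  have hone : (μ1 (-1 : K) : ℂ) * μ1 1 = 1 := by
    rw [← AddChar.map_add_eq_mul, neg_add_cancel, AddChar.map_zero_eq_one]
  have : (μ t : ℂ) = 1 :=
    mul_right_cancel₀ hne2 (by linear_combination (-1 : ℂ) * e' + (μ2 (t / c) : ℂ) * hone)
  rw [this, one_smul]

/-- The vector fixed by all positive root groups but the simple one. -/
theorem lineAt_a {M : LData} (hM : M.checkB T H = true) {i : ℕ} (hi : T.smp i = H.a) :
    LineAt ρ T i := by
  classical
  simp only [LData.checkB, Bool.and_eq_true, List.all_eq_true, List.contains_iff_mem, beq_iff_eq,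
    Bool.or_eq_true, Bool.not_eq_true', beq_eq_false_iff_ne, blt_iff] at hM
  obtain ⟨⟨⟨⟨⟨⟨⟨⟨⟨⟨⟨⟨⟨⟨⟨⟨⟨⟨⟨⟨⟨⟨⟨hkill, hkill2⟩, hdst⟩, hdQ⟩, hb1⟩, hc1⟩, hQlt⟩, hcov⟩, hoth⟩, hd1⟩, hclp⟩,
    hclm⟩, hwl⟩, hwQ⟩, hwa⟩, hwd⟩, hne⟩, haQ⟩, hdab⟩, hcab⟩, htp⟩, htm⟩, hsp⟩, hsm⟩ := hM
  obtain ⟨⟨⟨⟨⟨nba, nbd⟩, nbc⟩, nca⟩, ncd⟩, nad⟩ := hne
  have hdab' : H.d ∉ H.ab := by simpa using hdab
  have hcab' : M.c1 ∉ H.ab := by simpa using hcab
  have hn := nroots_eq L.arrays
  set Q := H.radical
  have hQn : ∀ r ∈ Q, r < D.nroots := fun r hr => hn.symm ▸ hQlt r hr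
  have hQab : ∀ r ∈ H.ab, r ∈ Q := fun r hr => List.mem_append_left _ hr
  -- the lines and the scalars on the partner
  have hbase : ∀ α : AddChar K ℂ, α ≠ 1 → ∃ (v : V) (lam : AddChar K ℂ), v ≠ 0 ∧
      Eigen ρ Q (fun r => if r = H.d then lam else oneAt H.a α r) v := by
    intro α hα
    set θ : HIdx H → AddChar K ℂ := fun i => oneAt H.a α (H.ab.get i) with hθ
    have hm : mA (L := L) ρ hH θ = 1 := h1 θ (Or.inr (by rw [hθ]; dsimp only; rw [hia, oneAt, if_pos rfl]; exact hα))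
    have hne : proj (opA (L := L) ρ hH) (piChar θ) ≠ 0 := fun h0 => by
      rw [mA, mult, h0, LinearMap.range_zero, finrank_bot] at hm
      exact zero_ne_one hm
    obtain ⟨x, hx⟩ : ∃ x, proj (opA (L := L) ρ hH) (piChar θ) x ≠ 0 := by
      by_contra! h
      exact hne (LinearMap.ext h)
    set v := proj (opA (L := L) ρ hH) (piChar θ) x with hv
    have hev : Eigen ρ H.ab (oneAt H.a α) v := fun r hr t => by
      obtain ⟨l, rfl⟩ := List.mem_iff_get.1 hr
      have e : ρ (X D (H.ab.get l) t) = opA (L := L) ρ hH (Pi.single l t) := by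
        rw [opA, abEl_single]
      rw [e, hv, ← Module.End.mul_apply, mul_proj (opA_add (L := L) ρ hH), piChar_single,
        LinearMap.smul_apply]
    have habn : ∀ r ∈ H.ab, r < D.nroots := fun r hr => pos_lt (L := L) (hH.pos r hr)
    obtain ⟨-, lam, hlam⟩ := scalar_root (L := L) ρ hH hia h1 hα hx (fun _ h => h) habn hev hdst
    have hkilled : ∀ p ∈ M.kills, ∀ t : K, ρ (X D p.1 t) v = v := fun p hp =>
      killed_root (L := L) ρ hH hia h1 hα hx (fun _ h => h) habn hev (hkill p hp)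
    refine ⟨v, lam, hx, fun r hr t => ?_⟩
    dsimp only
    by_cases hrd : r = H.d
    · rw [if_pos hrd, hrd, hlam]
    rw [if_neg hrd]
    rcases List.mem_append.1 hr with h | h
    · exact hev r h t
    · rcases hoth r h with h' | h'
      · exact absurd h' hrd
      · by_cases hab : r ∈ H.ab
        · exact hev r hab t
        obtain ⟨p, hp, rfl⟩ := List.mem_map.1 h'
        rw [hkilled p hp t, oneAt, if_neg, AddChar.one_apply, one_smul]
        intro e
        exact hab (e ▸ hia ▸ List.get_mem _ ia)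
  -- the partner is killed
  choose vv lam hvv hQ using hbase
  suffices hlam : ∀ (α : AddChar K ℂ) (hα : α ≠ 1), lam α hα = 1 by
    intro ψ hψ
    have hQ' : Eigen ρ Q (oneAt H.a ψ) (vv ψ hψ) := fun r hr t => by
      rw [hQ ψ hψ r hr t]
      dsimp only
      by_cases hrd : r = H.d
      · rw [if_pos hrd, hlam, hrd, oneAt, if_neg (Ne.symm nad)]
      · rw [if_neg hrd]
    refine ⟨vv ψ hψ, hvv ψ hψ, fun r hr t => ?_⟩
    dsimp only
    rw [hi]
    by_cases hrQ : r ∈ Q
    · exact hQ' r hrQ t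
    obtain ⟨p, hp, rfl⟩ := List.mem_map.1 ((hcov r hr).resolve_left hrQ)
    rw [killed_root (L := L) ρ hH hia h1 hψ (hvv ψ hψ) hQab hQn hQ' (hkill2 p hp) t, if_neg
      (fun e : p.1 = H.a => hrQ (e ▸ haQ)), AddChar.one_apply, one_smul]
  intro α hα
  obtain ⟨g, e, hg⟩ := exists_word (L := L) (K := K) M.word fun i hi => (rank_eq L.arrays).symm ▸ hwl i hi
  set θ3 : ℕ → AddChar K ℂ := fun r =>
    if r = M.b1 then AddChar.mulShift α (e H.a)⁻¹
    else if r = M.c1 then AddChar.mulShift (lam α hα) (e H.d)⁻¹ else 1 with hθ3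
  have h3 : Eigen ρ Q θ3 (ρ g (vv α hα)) := by
    have hsurj : ∀ r ∈ Q, ∃ r₀ ∈ Q, reflW T M.word r₀ = r := by
      have hmem : ∀ x : {r // r ∈ Q.toFinset}, reflW T M.word x.1 ∈ Q.toFinset :=
        fun x => List.mem_toFinset.2 (hwQ _ (List.mem_toFinset.1 x.2)).1
      have hi : Function.Injective fun x : {r // r ∈ Q.toFinset} =>
          (⟨reflW T M.word x.1, hmem x⟩ : {r // r ∈ Q.toFinset}) := fun x y hxy => Subtype.ext (by
        rw [← (hwQ _ (List.mem_toFinset.1 x.2)).2, ← (hwQ _ (List.mem_toFinset.1 y.2)).2,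
          show reflW T M.word x.1 = reflW T M.word y.1 from congrArg Subtype.val hxy])
      intro r hr
      obtain ⟨x, hx⟩ := (Finite.injective_iff_surjective.1 hi) ⟨r, List.mem_toFinset.2 hr⟩
      exact ⟨x.1, List.mem_toFinset.1 x.2, congrArg Subtype.val hx⟩
    refine Eigen.map ρ (hQ α hα) g (reflW T M.word) e
      (fun r hr => ⟨(hg r (hQn r hr)).2.1, (hg r (hQn r hr)).2.2⟩) hsurj fun r hr => ?_
    have inj : ∀ s ∈ Q, reflW T M.word r = reflW T M.word s → r = s := fun s hs h => by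
      rw [← (hwQ r hr).2, h, (hwQ s hs).2]
    by_cases hra : r = H.a
    · subst hra
      simp [hθ3, hwa, nad, oneAt]
    by_cases hrd : r = H.d
    · subst hrd
      simp [hθ3, hwd, Ne.symm nbc]
    · have e1 : reflW T M.word r ≠ M.b1 := fun h => hra (inj _ haQ (h.trans hwa.symm))
      have e2 : reflW T M.word r ≠ M.c1 := fun h => hrd (inj _ hdQ (h.trans hwd.symm))
      simp [hθ3, e1, e2, hra, hrd, oneAt, mulShift_one_char]
  have hd1' : M.d1 < D.nroots := hn.symm ▸ hd1
  have hdm : T.neg M.d1 < D.nroots := hn.symm ▸ (by simp [Tab.neg]; omega)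
  obtain ⟨θ2, h2, h2n, h2s⟩ := Eigen.step (L := L) ρ h3 hd1' hQn hclp 1
  -- values of the two characters
  have v3b : θ3 M.b1 = AddChar.mulShift α (e H.a)⁻¹ := if_pos rfl
  have v3c : θ3 M.c1 = AddChar.mulShift (lam α hα) (e H.d)⁻¹ := by
    rw [hθ3]; simp [Ne.symm nbc]
  have hb1n : M.b1 ∈ Q := hQab _ hb1
  have v2 : ∀ r ∈ M.c1 :: H.ab, r ≠ H.a → θ2 r = θ3 r := fun r hr hra => by
    have hrQ : r ∈ Q := by
      rcases List.mem_cons.1 hr with rfl | h
      exacts [hc1, hQab r h]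
    rcases hk : T.tg M.d1 r with _ | k
    · exact h2n r hrQ hk
    · obtain ⟨c, -, -, e⟩ := h2s r hrQ k hk
      obtain ⟨e1, e2⟩ := (hsp r hr).resolve_left hra
      have : θ3 k = 1 := by
        rw [hθ3]; dsimp only
        rw [if_neg (fun h => e1 (hk.trans (congrArg some h))), if_neg (fun h => e2 (hk.trans (congrArg some h)))]
      rw [e, this, mulShift_one_char, mul_one]
  obtain ⟨c, -, hc0, v2a⟩ := h2s H.a haQ M.b1 htp
  have v3a : θ3 H.a = 1 := by
    rw [hθ3]; simp [Ne.symm nba, Ne.symm nca]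
  rw [v3a, one_mul, v3b, AddChar.mulShift_mulShift, mul_one] at v2a
  have hea : e H.a ≠ 0 := (hg _ (hQn _ haQ)).2.1
  have hα' : θ2 H.a ≠ 1 := by
    rw [v2a]; exact mulShift_ne_one hα (mul_ne_zero (inv_ne_zero hea) hc0)
  set α' := θ2 H.a with hα'def
  set θ0 : ℕ → AddChar K ℂ := fun r => if r = H.d then lam α' hα' else oneAt H.a α' r with hθ0
  set c' : K := -(T.nn (T.neg M.d1) M.b1 : K) with hc'
  have hc'0 : c' ≠ 0 := by
    obtain ⟨e0, -⟩ := L.tg_spec hdm (hQn _ hb1n) htm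
    rcases (L.single _ hdm _ (hQn _ hb1n) e0).2.1 with h | h <;> simp [hc', h]
  obtain ⟨θ1, h1e, h1n, h1s⟩ := Eigen.step (L := L) ρ (hQ α' hα') hdm hQn hclm (c * c')⁻¹
  have v1 : ∀ r ∈ M.c1 :: H.ab, r ≠ M.b1 → θ1 r = θ0 r := fun r hr hrb => by
    have hrQ : r ∈ Q := by
      rcases List.mem_cons.1 hr with rfl | h
      exacts [hc1, hQab r h]
    rcases hk : T.tg (T.neg M.d1) r with _ | k
    · exact h1n r hrQ hk
    · obtain ⟨c, -, -, e⟩ := h1s r hrQ k hk
      obtain ⟨e1, e2⟩ := (hsm r hr).resolve_left hrb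
      have : θ0 k = 1 := by
        rw [hθ0]; dsimp only
        rw [if_neg (fun h => e2 (hk.trans (congrArg some h))), oneAt, if_neg (fun h => e1 (hk.trans (congrArg some h)))]
      rw [e]
      show θ0 r * AddChar.mulShift (θ0 k) _ = _
      rw [this, mulShift_one_char, mul_one]
  obtain ⟨c₂, hc₂, -, v1b⟩ := h1s M.b1 hb1n H.a htm
  rw [show (if M.b1 = H.d then lam α' hα' else oneAt H.a α' M.b1) = 1 by simp [nbd, oneAt, nba],
    show (if H.a = H.d then lam α' hα' else oneAt H.a α' H.a) = α' by simp [nad, oneAt], one_mul,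
    hc₂, ← hc', v2a, AddChar.mulShift_mulShift] at v1b
  have hb : θ1 M.b1 = θ2 M.b1 := by
    rw [v1b, v2 M.b1 (List.mem_cons_of_mem _ hb1) nba, v3b]
    congr 1
    field_simp
  have hab : ∀ r ∈ H.ab, θ1 r = θ2 r := fun r hr => by
    by_cases hrb : r = M.b1
    · rw [hrb, hb]
    by_cases hra : r = H.a
    · rw [hra, v1 H.a (List.mem_cons_of_mem _ (hia ▸ List.get_mem _ ia)) (Ne.symm nba), ← hα'def]
      simp [hθ0, nad, oneAt]
    · have hrd : r ≠ H.d := fun h => hdab' (h ▸ hr)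
      have hrc : r = M.c1 ∨ r ≠ M.c1 := eq_or_ne _ _
      rw [v1 r (List.mem_cons_of_mem _ hr) hrb, v2 r (List.mem_cons_of_mem _ hr) hra]
      rcases hrc with rfl | hrc
      · exact absurd hr hcab'
      · simp [hθ0, hθ3, hrd, hra, hrb, hrc, oneAt]
  obtain ⟨x, hx⟩ := same_line (L := L) ρ hH hia h1 (rho_ne_zero ρ _ (hvv α' hα'))
    (by rw [hab H.a (hia ▸ List.get_mem _ ia), ← hα'def]; exact hα')
    (fun r hr => h1e r (hQab r hr))
    (fun r hr t => by rw [hab r hr]; exact h2 r (hQab r hr) t)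
  have hw0 : ρ (X D M.d1 1) (ρ g (vv α hα)) ≠ 0 := rho_ne_zero ρ _ (rho_ne_zero ρ _ (hvv α hα))
  refine DFunLike.ext _ _ fun t => ?_
  have e1 := h2 M.c1 hc1 ((e H.d) * t)
  rw [hx, map_smul, h1e M.c1 hc1, v1 M.c1 List.mem_cons_self (Ne.symm nbc),
    v2 M.c1 List.mem_cons_self nca, v3c, AddChar.mulShift_apply,
    inv_mul_cancel_left₀ (hg _ (hQn _ hdQ)).2.1] at e1
  rw [show θ0 M.c1 = 1 by simp [hθ0, ncd, oneAt, nca], AddChar.one_apply, one_smul] at e1
  have e2 : (lam α hα t - 1) • (x • ρ (X D (T.neg M.d1) (c * c')⁻¹) (vv α' hα')) = 0 := by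
    rw [sub_smul, one_smul, ← e1, sub_self]
  rw [AddChar.one_apply]
  exact sub_eq_zero.1 ((smul_eq_zero.1 e2).resolve_right (hx ▸ hw0))

end CfsgLib.Known.LieDegree
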