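/-
The lower bound for the dimension of a faithful representation from a certificate.
-/
import Mathlib
import Cfsg.Agent.Lib.Known.LieDegree.LineA
import Cfsg.Agent.Lib.Known.LieDegree.Levels

set_option autoImplicit false
set_option maxHeartbeats 1000000

namespace CfsgLib.Known.LieDegree

open Cfsg.Lie CfsgLib.Chev CfsgLib.Chev.Table CfsgLib.Known.D4Degree

universe v

/-- A certificate for the bound. -/
structure Cert where
  heis : HData
  line : LData
  /-- The simple index of `heis.a`. -/
  node : ℕ
  /-- Edges along which the simple characters propagate. -/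
  path : List (ℕ × ℕ)
  levs : List Lev

/-- Each layer starts where the previous one stops. -/
def stackB (T : Tab) : List ℕ → List Lev → Bool
  | _, [] => true
  | S, l :: rest => (l.prev == S) && l.checkB T && stackB T l.all rest

/-- The nodes reached by the edges. -/
def spreadB (T : Tab) : List ℕ → List (ℕ × ℕ) → List ℕ → Bool
  | done, [], need => need.all fun i => done.contains i
  | done, (i, j) :: rest, need =>
    done.contains i && Nat.blt i T.rank && Nat.blt j T.rank && adjB T i j &&
      spreadB T (j :: done) rest need

/-- The checks on a certificate. -/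
def Cert.checkB (T : Tab) (C : Cert) : Bool :=
  C.heis.checkB T && C.line.checkB T C.heis && (T.smp C.node == C.heis.a) &&
    stackB T [C.heis.z] C.levs && spreadB T [C.node] C.path (C.levs.map (·.node))

/-- The number of characters given by all the layers. -/
def Cert.count (C : Cert) (q : ℕ) : ℕ := (C.levs.map fun l => l.count q).sum

variable {D : ChevalleyDatum} {T : Tab} {L : LCtx.{v} D T} {K : Type v} [Field K] [Fintype K]
  {V : Type*} [AddCommGroup V] [Module ℂ V] (ρ : Representation ℂ ↥(D.group K) V)
  [FiniteDimensional ℂ V]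

include L

theorem stack_bound : ∀ (levs : List Lev) (S : List ℕ), stackB T S levs = true →
    (∀ l ∈ levs, LineAt ρ T l.node) →
    (levs.map fun l => l.count (Fintype.card K)).sum ≤ Module.finrank ℂ (fixed ρ S) := by
  intro levs
  induction levs with
  | nil => intro S _ _; simp
  | cons l rest ih =>
    intro S h hl
    simp only [stackB, Bool.and_eq_true, beq_iff_eq] at h
    obtain ⟨⟨rfl, h1⟩, h2⟩ := h
    have := level_bound (L := L) ρ h1 (hl l List.mem_cons_self)
    have := ih l.all h2 fun l' h' => hl l' (List.mem_cons_of_mem _ h')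
    simp only [List.map_cons, List.sum_cons]
    omega

theorem spread_spec : ∀ (path : List (ℕ × ℕ)) (done need : List ℕ),
    spreadB T done path need = true → (∀ i ∈ done, LineAt ρ T i) → ∀ i ∈ need, LineAt ρ T i := by
  intro path
  induction path with
  | nil =>
    intro done need h hd i hi
    simp only [spreadB, List.all_eq_true, List.contains_iff_mem] at h
    exact hd i (h i hi)
  | cons p rest ih =>
    obtain ⟨a, b⟩ := p
    intro done need h hd
    simp only [spreadB, Bool.and_eq_true, List.contains_iff_mem, blt_iff] at h
    obtain ⟨⟨⟨⟨h1, h2⟩, h3⟩, h4⟩, h5⟩ := h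
    refine ih _ need h5 fun i hi => ?_
    rcases List.mem_cons.1 hi with rfl | hi
    · exact lineAt_adj (L := L) ρ (rank_eq L.arrays ▸ h2) (rank_eq L.arrays ▸ h3) h4 (hd a h1)
    · exact hd i hi

/-- Either the dimension is large or it exceeds the count, with known trace on a long root element. -/
theorem dim_bound {C : Cert} (h : C.checkB T = true) (hinj : Function.Injective ρ) :
    2 * ((Fintype.card K - 1) * Fintype.card K ^ C.heis.half.length +
      (Fintype.card K - 1) * Fintype.card K ^ (C.heis.half.length - 1)) ≤ Module.finrank ℂ V ∨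
    ((Fintype.card K - 1) * Fintype.card K ^ C.heis.half.length + C.count (Fintype.card K) ≤
        Module.finrank ℂ V ∧
      LinearMap.trace ℂ V (ρ (X D C.heis.z (1 : K))) +
        (Fintype.card K : ℂ) ^ (C.heis.half.length + 1) = Module.finrank ℂ V) := by
  classical
  simp only [Cert.checkB, Bool.and_eq_true, beq_iff_eq] at h
  obtain ⟨⟨⟨⟨h1, h2⟩, h3⟩, h4⟩, h5⟩ := h
  have hH := hfacts_of_check (L := L) h1
  obtain ⟨ia, hia⟩ := List.mem_iff_get.1 (List.mem_cons_of_mem C.heis.z hH.a_mem)
  obtain ⟨r, hr1, hr, hdim, hlow, htr⟩ := finrank_fixed_z (L := L) ρ hH hinj (ia := ia) hia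
  rcases Nat.lt_or_ge r 2 with hlt | hge
  swap
  · left
    set A := (Fintype.card K - 1) * Fintype.card K ^ C.heis.half.length
    set B := (Fintype.card K - 1) * Fintype.card K ^ (C.heis.half.length - 1)
    have : 2 * A ≤ r * A := Nat.mul_le_mul_right _ hge
    have : 2 * B ≤ r * B := Nat.mul_le_mul_right _ hge
    omega
  obtain rfl : r = 1 := by omega
  right
  simp only [one_mul, Nat.cast_one] at hdim htr
  have ha : LineAt ρ T C.node := lineAt_a (L := L) ρ hH hia (fun θ hθ => hr θ hθ) h2 h3
  have hall := spread_spec (L := L) ρ C.path [C.node] _ h5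
    (fun i hi => by rw [List.mem_singleton.1 hi]; exact ha)
  have hst := stack_bound (L := L) ρ C.levs [C.heis.z] h4
    (fun l hl => hall _ (List.mem_map.2 ⟨l, hl, rfl⟩))
  refine ⟨by rw [Cert.count]; omega, ?_⟩
  rw [← hdim]
  push_cast
  rw [← htr, Nat.cast_sub Fintype.card_pos, pow_succ]
  push_cast
  ring

end CfsgLib.Known.LieDegree
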