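/-
The count of a certificate as a coefficient list, and faithfulness for simple groups.
-/
import Mathlib
import Cfsg.Agent.Lib.Known.LieDegree.Bound
import Cfsg.Agent.Lib.Known.LieDegree.Arith

set_option autoImplicit false

namespace CfsgLib.Known.LieDegree

/-- The sum of the monomials with the given exponents. -/
def monoSum (ns : List ℕ) : List ℤ := ns.foldr (fun n l => padd (mono n) l) []

theorem pev_monoSum : ∀ (ns : List ℕ) (q : ℤ), pev (monoSum ns) q = (ns.map fun n => q ^ n).sum
  | [], q => by simp [monoSum, pev]
  | n :: ns, q => by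
    show pev (padd (mono n) (monoSum ns)) q = _
    rw [pev_padd, pev_mono, pev_monoSum ns q, List.map_cons, List.sum_cons]

/-- The exponents in the count. -/
def Cert.lens (C : Cert) : List ℕ := C.levs.flatMap fun l => l.cells.map fun c => c.2.length

theorem Cert.count_eq (C : Cert) (q : ℕ) :
    C.count q = (q - 1) * (C.lens.map fun n => q ^ n).sum := by
  rw [Cert.count, Cert.lens]
  induction C.levs with
  | nil => simp
  | cons l ls ih =>
    rw [List.map_cons, List.sum_cons, ih, List.flatMap_cons, List.map_append, List.sum_append, mul_add,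
      List.map_map, Lev.count]
    congr 1
    exact List.sum_map_mul_left l.cells (fun c => q ^ c.2.length) (q - 1)

/-- The coefficient list of the count plus the slack. -/
def Cert.totalL (C : Cert) (J : ℕ) : List ℤ :=
  padd (pmul [-1, 1] (padd (mono C.heis.half.length) (monoSum C.lens))) [(J : ℤ)]

theorem Cert.total_eq {C : Cert} {J : ℕ} {B : List ℤ} (h : peqB (C.totalL J) B = true) {q b : ℕ}
    (hq : 1 ≤ q) (hb : pev B q = b) :
    (q - 1) * q ^ C.heis.half.length + C.count q + J = b := by
  have e := pev_eq h (q : ℤ)
  rw [hb, Cert.totalL, pev_padd, pev_pmul, pev_padd, pev_mono, pev_monoSum] at e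
  simp only [pev] at e
  have : (((q - 1) * q ^ C.heis.half.length + C.count q + J : ℕ) : ℤ) = b := by
    rw [← e, C.count_eq]
    push_cast [Nat.cast_sub hq, Nat.cast_list_sum, List.map_map, Function.comp_def]
    ring
  exact_mod_cast this

/-- An irreducible representation of degree at least two of a simple group is faithful. -/
theorem injective_of_simple {G : Type*} [Group G] [IsSimpleGroup G] {k : ℕ}
    (ρ : Representation ℂ G (Fin k → ℂ)) (hirr : ρ.IsIrreducible) (hk : 2 ≤ k) :
    Function.Injective ρ := by
  rw [← MonoidHom.ker_eq_bot_iff]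
  refine (ρ.normal_ker.eq_bot_or_eq_top).resolve_right fun htop => ?_
  have h : ∀ g, ρ g = 1 := fun g => MonoidHom.mem_ker.1 (htop ▸ Subgroup.mem_top g)
  let W : Subrepresentation ρ :=
    { toSubmodule := ℂ ∙ (Pi.single (⟨0, by omega⟩ : Fin k) 1 : Fin k → ℂ)
      apply_mem_toSubmodule := fun g v hv => by rw [h g]; exact hv }
  rcases hirr.eq_bot_or_eq_top W with hW | hW
  · have : ℂ ∙ (Pi.single (⟨0, by omega⟩ : Fin k) 1 : Fin k → ℂ) = ⊥ :=
      congrArg Subrepresentation.toSubmodule hW
    simp at this
  · have := congrArg (fun S : Subrepresentation ρ => Module.finrank ℂ S.toSubmodule) hW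
    have e1 : Module.finrank ℂ W.toSubmodule = 1 := finrank_span_singleton (by simp)
    have e2 : Module.finrank ℂ (⊤ : Subrepresentation ρ).toSubmodule = k := by
      rw [show (⊤ : Subrepresentation ρ).toSubmodule = ⊤ from rfl, finrank_top,
        Module.finrank_fin_fun]
    omega

end CfsgLib.Known.LieDegree
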