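/-
A certificate for the minimal degree of E6(q), found by a search over the root tables.
-/
import Cfsg.Agent.Lib.Known.LieDegree.Bound
import Cfsg.Agent.Lib.Chev.Data.E6

set_option autoImplicit false
set_option maxRecDepth 20000
set_option maxHeartbeats 1000000
set_option linter.all false
set_option Elab.async false

namespace CfsgLib.Known.LieDegree.E6

open CfsgLib.Chev

/-- The long root parabolic. -/
def hdata : HData where
  z := 71
  a := 46
  d := 70
  j := 1
  half := [46, 47, 48, 49, 50, 51, 52, 61, 62, 63]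
  other := [(70, 46), (69, 47), (68, 48), (67, 49), (66, 50), (65, 51), (64, 52), (55, 61), (54, 62), (53, 63)]
  word := [3, 2, 0, 4, 3, 1, 2, 3, 4, 5, 4, 3, 2, 1, 3, 4, 0, 2, 3]

/-- The simple root character. -/
def ldata : LData where
  kills := [(53, 14, 67), (54, 14, 68), (55, 14, 69), (64, 29, 67), (65, 29, 68), (66, 29, 69), (67, 33, 69),
      (68, 34, 69), (69, 37, 68)]
  kills2 := [(36, 34, 38), (37, 35, 38), (38, 36, 37), (39, 14, 58), (40, 14, 59), (41, 14, 60), (42, 15, 57),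
      (43, 15, 58), (44, 15, 59), (45, 15, 60), (56, 29, 57), (57, 42, 56), (58, 33, 60), (59, 35, 60),
      (60, 36, 59)]
  d1 := 39
  word := [3]
  b1 := 47
  c1 := 69

/-- Layer 0. -/
def lev0 : Lev where
  node := 1
  prev := [71]
  layer := [46, 47, 48, 49, 50, 51, 52, 53, 54, 55, 61, 62, 63, 64, 65, 66, 67, 68, 69, 70]
  steps := [(47, 3, 46), (50, 2, 47), (48, 4, 47), (61, 0, 50), (51, 4, 50), (49, 5, 48), (62, 4, 61), (53, 3,
      51), (52, 5, 51), (64, 3, 62), (63, 5, 62), (54, 5, 53), (67, 2, 64), (65, 5, 64), (55, 4, 54),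
      (68, 5, 67), (66, 4, 65), (69, 4, 68), (70, 3, 69)]
  cells := [(46, []), (47, [39]), (48, [37, 40]), (49, [36, 38, 41]), (50, [42, 43]), (51, [37, 42, 44]), (52,
      [36, 38, 42, 45]), (53, [39, 40, 43, 44]), (54, [36, 39, 41, 43, 45]), (55, [37, 38, 40, 41, 44,
      45]), (61, [56, 57, 58]), (62, [37, 56, 57, 59]), (63, [36, 38, 56, 57, 60]), (64, [39, 40, 56, 58,
      59]), (65, [36, 39, 41, 56, 58, 60]), (66, [37, 38, 40, 41, 56, 59, 60]), (67, [42, 43, 44, 57, 58,
      59]), (68, [36, 42, 43, 45, 57, 58, 60]), (69, [37, 38, 42, 44, 45, 57, 59, 60]), (70, [39, 40, 41,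
      43, 44, 45, 58, 59, 60])]

/-- Layer 1. -/
def lev1 : Lev where
  node := 0
  prev := [71, 46, 47, 48, 49, 50, 51, 52, 53, 54, 55, 61, 62, 63, 64, 65, 66, 67, 68, 69, 70]
  layer := [56, 57, 58, 59, 60]
  steps := [(57, 2, 56), (58, 3, 57), (59, 4, 58), (60, 5, 59)]
  cells := [(56, []), (57, [42]), (58, [39, 43]), (59, [37, 40, 44]), (60, [36, 38, 41, 45])]

/-- Layer 2. -/
def lev2 : Lev where
  node := 2
  prev := [71, 46, 47, 48, 49, 50, 51, 52, 53, 54, 55, 61, 62, 63, 64, 65, 66, 67, 68, 69, 70, 56, 57, 58, 59,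
      60]
  layer := [42, 43, 44, 45]
  steps := [(43, 3, 42), (44, 4, 43), (45, 5, 44)]
  cells := [(42, []), (43, [39]), (44, [37, 40]), (45, [36, 38, 41])]

/-- Layer 3. -/
def lev3 : Lev where
  node := 3
  prev := [71, 46, 47, 48, 49, 50, 51, 52, 53, 54, 55, 61, 62, 63, 64, 65, 66, 67, 68, 69, 70, 56, 57, 58, 59,
      60, 42, 43, 44, 45]
  layer := [39, 40, 41]
  steps := [(40, 4, 39), (41, 5, 40)]
  cells := [(39, []), (40, [37]), (41, [36, 38])]

/-- Layer 4. -/
def lev4 : Lev where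
  node := 4
  prev := [71, 46, 47, 48, 49, 50, 51, 52, 53, 54, 55, 61, 62, 63, 64, 65, 66, 67, 68, 69, 70, 56, 57, 58, 59,
      60, 42, 43, 44, 45, 39, 40, 41]
  layer := [37, 38]
  steps := [(38, 5, 37)]
  cells := [(37, []), (38, [36])]

/-- Layer 5. -/
def lev5 : Lev where
  node := 5
  prev := [71, 46, 47, 48, 49, 50, 51, 52, 53, 54, 55, 61, 62, 63, 64, 65, 66, 67, 68, 69, 70, 56, 57, 58, 59,
      60, 42, 43, 44, 45, 39, 40, 41, 37, 38]
  layer := [36]
  steps := []
  cells := [(36, [])]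

/-- The certificate. -/
def cert : Cert where
  heis := hdata
  line := ldata
  node := 1
  path := [(1, 3), (3, 2), (3, 4), (2, 0), (4, 5)]
  levs := [lev0, lev1, lev2, lev3, lev4, lev5]

theorem cert_chk : cert.checkB DataE6.tab = true := by decide +kernel

theorem lctx.{w} : LCtx.{w} Cfsg.Lie.chevE6 DataE6.tab :=
  lctx_of_tables DataE6.facts (DataE6.facts.commF_of_short DataE6.short) DataE6.chk_arrays
    DataE6.chk_chain DataE6.chk_pairs DataE6.chk_roots DataE6.laced_pairs

end CfsgLib.Known.LieDegree.E6
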