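/-
The few values just below the minimal degree of E6(q) do not divide the group order.
-/
import Cfsg.Agent.Lib.Known.LieDegree.Arith
import Cfsg.Agent.Lib.Known.LieDegree.CertE6

set_option autoImplicit false
set_option maxRecDepth 100000
set_option maxHeartbeats 2000000
set_option linter.all false
set_option Elab.async false

namespace CfsgLib.Known.LieDegree.E6

open CfsgLib.Chev.Table

/-- The bound. -/
def bnd (q : ℕ) : ℕ := q * (q ^ 6 + q ^ 3 + 1) * (q ^ 4 + 1)

/-- The part of the order prime to the characteristic, up to the order of the centre. -/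
def ordP (q : ℕ) : ℕ := (q ^ 2 - 1) * (q ^ 5 - 1) * (q ^ 6 - 1) * (q ^ 8 - 1) * (q ^ 9 - 1) * (q ^ 12 - 1)

/-- The bound as a coefficient list. -/
def bndL : List ℤ := [0, 1, 0, 0, 1, 1, 0, 1, 1, 0, 0, 1]

theorem bndL_eval (q : ℕ) : pev bndL q = bnd q := by
  simp only [bndL, pev, bnd]; push_cast; ring

theorem ordP_eval {q : ℕ} (hq : 1 ≤ q) : pev (cycL [2, 5, 6, 8, 9, 12]) q = ordP q := by
  have h : ∀ e : ℕ, ((q ^ e - 1 : ℕ) : ℤ) = (q : ℤ) ^ e - 1 := fun e => by
    rw [Nat.cast_sub (Nat.one_le_pow _ _ hq), Nat.cast_pow, Nat.cast_one]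
  simp only [pev_cycL, ordP, Nat.cast_mul, h, List.map_cons, List.map_nil, List.prod_cons, List.prod_nil]
  ring

theorem pow_le_bnd {q j : ℕ} (hq : 2 ≤ q) (hj : j ≤ 6) : q ^ 11 + j ≤ bnd q := by
  have : 2 ^ 8 ≤ q ^ 8 := Nat.pow_le_pow_left hq _
  simp only [bnd]; ring_nf; norm_num at this; omega

/-- Small values. -/
def smallB (j lo len : ℕ) : Bool :=
  allBelow len fun i => Nat.blt (lo + i) 2 || !(Nat.beq ((j * ordP (lo + i)) % (bnd (lo + i) - j)) 0)

theorem rem1 {q : ℤ} (hq : 29 ≤ q) (hN : q ^ 11 ≤ pev bndL q - 1) :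
    ¬ (pev bndL q - 1) ∣ 1 * pev (cycL [2, 5, 6, 8, 9, 12]) q := by
  have e : pev bndL q - 1 = pev (padd [-1] bndL) q := by
    rw [pev_padd]; simp [pev]; ring
  rw [e] at hN ⊢
  exact not_dvd_of_rem (P := cycL [2, 5, 6, 8, 9, 12]) (R0 := [-26, 12, 18, 6, 36, 33, 5, 5, 7, -19])
    (Qp := [-27, -15, 4, 10, 19, 11, 6, -3, -9, -8, -5, -2, 2, 6, 3, 3, -1, -1, -3, -3, 0, 0, 1, 2, 2, 0, 0, -1,
    -1, -1, 0, 1])
    (c := -27) (C := 36) (B := 28) (by norm_num) (by decide +kernel) rfl (by decide +kernel)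
    (by norm_num) (by norm_num) (by norm_num) hq hN

theorem small1_0 : smallB 1 0 29 = true := by decide +kernel

theorem rem2 {q : ℤ} (hq : 168 ≤ q) (hN : q ^ 11 ≤ pev bndL q - 2) :
    ¬ (pev bndL q - 2) ∣ 2 * pev (cycL [2, 5, 6, 8, 9, 12]) q := by
  have e : pev bndL q - 2 = pev (padd [-2] bndL) q := by
    rw [pev_padd]; simp [pev]; ring
  rw [e] at hN ⊢
  exact not_dvd_of_rem (P := cycL [2, 5, 6, 8, 9, 12]) (R0 := [-230, 48, 148, 66, 222, 128, -42, -50, -52, -160])
    (Qp := [-116, -34, 58, 62, 84, 32, 8, -20, -38, -28, -18, -2, 12, 22, 10, 8, -6, -6, -8, -6, 2, 0, 2, 4, 4,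
    0, 0, -2, -2, -2, 0, 2])
    (c := -166) (C := 230) (B := 167) (by norm_num) (by decide +kernel) rfl (by decide +kernel)
    (by norm_num) (by norm_num) (by norm_num) hq hN

theorem small2_0 : smallB 2 0 168 = true := by decide +kernel

theorem rem3 {q : ℤ} (hq : 503 ≤ q) (hN : q ^ 11 ≤ pev bndL q - 3) :
    ¬ (pev bndL q - 3) ∣ 3 * pev (cycL [2, 5, 6, 8, 9, 12]) q := by
  have e : pev bndL q - 3 = pev (padd [-3] bndL) q := by
    rw [pev_padd]; simp [pev]; ring
  rw [e] at hN ⊢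
  exact not_dvd_of_rem (P := cycL [2, 5, 6, 8, 9, 12]) (R0 := [-834, 216, 684, 336, 714, 225, -285, -285, -297, -531])
    (Qp := [-279, -21, 222, 186, 207, 45, -12, -57, -87, -54, -39, 0, 30, 48, 21, 15, -15, -15, -15, -9, 6, 0, 3,
    6, 6, 0, 0, -3, -3, -3, 0, 3])
    (c := -501) (C := 834) (B := 502) (by norm_num) (by decide +kernel) rfl (by decide +kernel)
    (by norm_num) (by norm_num) (by norm_num) hq hN

theorem small3_0 : smallB 3 0 503 = true := by decide +kernel

theorem rem4 {q : ℤ} (hq : 1118 ≤ q) (hN : q ^ 11 ≤ pev bndL q - 4) :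
    ¬ (pev bndL q - 4) ∣ 4 * pev (cycL [2, 5, 6, 8, 9, 12]) q := by
  have e : pev bndL q - 4 = pev (padd [-4] bndL) q := by
    rw [pev_padd]; simp [pev]; ring
  rw [e] at hN ⊢
  exact not_dvd_of_rem (P := cycL [2, 5, 6, 8, 9, 12]) (R0 := [-2108, 768, 2160, 1092, 1716, 192, -940, -844, -848, -1216])
    (Qp := [-528, 60, 556, 412, 400, 32, -72, -120, -156, -80, -68, 4, 56, 84, 36, 24, -28, -28, -24, -12, 12, 0,
    4, 8, 8, 0, 0, -4, -4, -4, 0, 4])
    (c := -1116) (C := 2160) (B := 1117) (by norm_num) (by decide +kernel) rfl (by decide +kernel)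
    (by norm_num) (by norm_num) (by norm_num) hq hN

theorem small4_0 : smallB 4 0 1118 = true := by decide +kernel

theorem rem5 {q : ℤ} (hq : 2098 ≤ q) (hN : q ^ 11 ≤ pev bndL q - 5) :
    ¬ (pev bndL q - 5) ∣ 5 * pev (cycL [2, 5, 6, 8, 9, 12]) q := by
  have e : pev bndL q - 5 = pev (padd [-5] bndL) q := by
    rw [pev_padd]; simp [pev]; ring
  rw [e] at hN ⊢
  exact not_dvd_of_rem (P := cycL [2, 5, 6, 8, 9, 12]) (R0 := [-4370, 2100, 5350, 2730, 3480, -175, -2295, -1895, -1825, -2275])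
    (Qp := [-875, 245, 1120, 770, 675, -25, -190, -215, -245, -100, -105, 10, 90, 130, 55, 35, -45, -45, -35,
    -15, 20, 0, 5, 10, 10, 0, 0, -5, -5, -5, 0, 5])
    (c := -2095) (C := 5350) (B := 2097) (by norm_num) (by decide +kernel) rfl (by decide +kernel)
    (by norm_num) (by norm_num) (by norm_num) hq hN

theorem small5_0 : smallB 5 0 2000 = true := by decide +kernel

theorem small5_1 : smallB 5 2000 98 = true := by decide +kernel

theorem rem6 {q : ℤ} (hq : 3526 ≤ q) (hN : q ^ 11 ≤ pev bndL q - 6) :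
    ¬ (pev bndL q - 6) ∣ 6 * pev (cycL [2, 5, 6, 8, 9, 12]) q := by
  have e : pev bndL q - 6 = pev (padd [-6] bndL) q := by
    rw [pev_padd]; simp [pev]; ring
  rw [e] at hN ⊢
  exact not_dvd_of_rem (P := cycL [2, 5, 6, 8, 9, 12]) (R0 := [-7986, 4752, 11268, 5766, 6306, -1152, -4710, -3630, -3348, -3744])
    (Qp := [-1332, 570, 1974, 1290, 1044, -144, -384, -348, -354, -108, -150, 18, 132, 186, 78, 48, -66, -66,
    -48, -18, 30, 0, 6, 12, 12, 0, 0, -6, -6, -6, 0, 6])
    (c := -3522) (C := 11268) (B := 3525) (by norm_num) (by decide +kernel) rfl (by decide +kernel)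
    (by norm_num) (by norm_num) (by norm_num) hq hN

theorem small6_0 : smallB 6 0 2000 = true := by decide +kernel

theorem small6_1 : smallB 6 2000 1526 = true := by decide +kernel

theorem smallB_spec {j lo len q : ℕ} (h : smallB j lo len = true) (h1 : lo ≤ q) (h2 : q < lo + len)
    (hq : 2 ≤ q) : ¬ (bnd q - j ∣ j * ordP q) := by
  have := allBelow_spec h (q - lo) (by omega)
  rw [Nat.add_sub_cancel' h1] at this
  simp only [Bool.or_eq_true, blt_iff, Bool.not_eq_true'] at this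
  intro hd
  rcases this with h | h
  · omega
  · rw [Nat.mod_eq_zero_of_dvd hd] at h; simp at h

/-- The values just below the bound. -/
theorem not_dvd_mul {q j : ℕ} (hq : 2 ≤ q) (hj1 : 1 ≤ j) (hj : j ≤ 6) :
    ¬ (bnd q - j ∣ j * ordP q) := by
  intro h
  have hb := pow_le_bnd hq hj
  have hN : (q : ℤ) ^ 11 ≤ pev bndL q - j := by
    rw [bndL_eval]; have : ((q ^ 11 + j : ℕ) : ℤ) ≤ bnd q := by exact_mod_cast hb
    push_cast at this; linarith
  have hd : pev bndL q - (j : ℤ) ∣ (j : ℤ) * pev (cycL [2, 5, 6, 8, 9, 12]) q := by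
    rw [bndL_eval, ordP_eval (by omega : 1 ≤ q), ← Nat.cast_sub (by omega), ← Nat.cast_mul]
    exact Int.natCast_dvd_natCast.2 h
  interval_cases j
  · rcases Nat.lt_or_ge q 29 with hl | hl
    · exact smallB_spec small1_0 (by omega) (by omega) hq h
    · exact rem1 (q := (q : ℤ)) (by exact_mod_cast hl) (by simpa using hN) (by simpa using hd)
  · rcases Nat.lt_or_ge q 168 with hl | hl
    · exact smallB_spec small2_0 (by omega) (by omega) hq h
    · exact rem2 (q := (q : ℤ)) (by exact_mod_cast hl) (by simpa using hN) (by simpa using hd)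
  · rcases Nat.lt_or_ge q 503 with hl | hl
    · exact smallB_spec small3_0 (by omega) (by omega) hq h
    · exact rem3 (q := (q : ℤ)) (by exact_mod_cast hl) (by simpa using hN) (by simpa using hd)
  · rcases Nat.lt_or_ge q 1118 with hl | hl
    · exact smallB_spec small4_0 (by omega) (by omega) hq h
    · exact rem4 (q := (q : ℤ)) (by exact_mod_cast hl) (by simpa using hN) (by simpa using hd)
  · rcases Nat.lt_or_ge q 2098 with hl | hl
    · rcases (by omega : (0 ≤ q ∧ q < 0 + 2000) ∨ (2000 ≤ q ∧ q < 2000 + 98)) with ⟨a, b⟩ | ⟨a, b⟩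
      · exact smallB_spec small5_0 a b hq h
      · exact smallB_spec small5_1 a b hq h
    · exact rem5 (q := (q : ℤ)) (by exact_mod_cast hl) (by simpa using hN) (by simpa using hd)
  · rcases Nat.lt_or_ge q 3526 with hl | hl
    · rcases (by omega : (0 ≤ q ∧ q < 0 + 2000) ∨ (2000 ≤ q ∧ q < 2000 + 1526)) with ⟨a, b⟩ | ⟨a, b⟩
      · exact smallB_spec small6_0 a b hq h
      · exact smallB_spec small6_1 a b hq h
    · exact rem6 (q := (q : ℤ)) (by exact_mod_cast hl) (by simpa using hN) (by simpa using hd)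

theorem tiny : allBelow 7 (fun q => allBelow 7 fun j =>
    !(Nat.ble 2 q && Nat.ble q j) || ((Nat.beq q 2 && Nat.beq j 2) || (Nat.beq q 4 && Nat.beq j 4)) ||
      !(Nat.beq ((q ^ 36 * ordP q) % (bnd q - j)) 0)) = true := by decide +kernel

end CfsgLib.Known.LieDegree.E6
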