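/-
The few values just below the minimal degree of E8(q) do not divide the group order.
-/
import Cfsg.Agent.Lib.Known.LieDegree.Arith
import Cfsg.Agent.Lib.Known.LieDegree.CertE8

set_option autoImplicit false
set_option maxRecDepth 100000
set_option maxHeartbeats 2000000
set_option linter.all false
set_option Elab.async false

namespace CfsgLib.Known.LieDegree.E8

open CfsgLib.Chev.Table

/-- The bound. -/
def bnd (q : ℕ) : ℕ := q * (q ^ 12 + 1) * (q ^ 10 + 1) * (q ^ 6 + 1)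

/-- The part of the order prime to the characteristic, up to the order of the centre. -/
def ordP (q : ℕ) : ℕ := (q ^ 2 - 1) * (q ^ 8 - 1) * (q ^ 12 - 1) * (q ^ 14 - 1) * (q ^ 18 - 1) * (q ^ 20 - 1) * (q ^ 24 - 1) * (q ^ 30 - 1)

/-- The bound as a coefficient list. -/
def bndL : List ℤ := [0, 1, 0, 0, 0, 0, 0, 1, 0, 0, 0, 1, 0, 1, 0, 0, 0, 1, 0, 1, 0, 0, 0, 1, 0, 0, 0, 0, 0, 1]

theorem bndL_eval (q : ℕ) : pev bndL q = bnd q := by
  simp only [bndL, pev, bnd]; push_cast; ring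

theorem ordP_eval {q : ℕ} (hq : 1 ≤ q) : pev (cycL [2, 8, 12, 14, 18, 20, 24, 30]) q = ordP q := by
  have h : ∀ e : ℕ, ((q ^ e - 1 : ℕ) : ℤ) = (q : ℤ) ^ e - 1 := fun e => by
    rw [Nat.cast_sub (Nat.one_le_pow _ _ hq), Nat.cast_pow, Nat.cast_one]
  simp only [pev_cycL, ordP, Nat.cast_mul, h, List.map_cons, List.map_nil, List.prod_cons, List.prod_nil]
  ring

theorem pow_le_bnd {q j : ℕ} (hq : 2 ≤ q) (hj : j ≤ 8) : q ^ 29 + j ≤ bnd q := by
  have : 2 ^ 23 ≤ q ^ 23 := Nat.pow_le_pow_left hq _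
  simp only [bnd]; ring_nf; norm_num at this; omega

/-- Small values. -/
def smallB (j lo len : ℕ) : Bool :=
  allBelow len fun i => Nat.blt (lo + i) 2 || !(Nat.beq ((j * ordP (lo + i)) % (bnd (lo + i) - j)) 0)

theorem rem1 {q : ℤ} (hq : 37 ≤ q) (hN : q ^ 29 ≤ pev bndL q - 1) :
    ¬ (pev bndL q - 1) ∣ 1 * pev (cycL [2, 8, 12, 14, 18, 20, 24, 30]) q := by
  have e : pev bndL q - 1 = pev (padd [-1] bndL) q := by
    rw [pev_padd]; simp [pev]; ring
  rw [e] at hN ⊢
  exact not_dvd_of_rem (P := cycL [2, 8, 12, 14, 18, 20, 24, 30]) (R0 := [-3, 15, -27, 7, 1, 35, -35, 13, -11, 34, -4, -5, -23, 24, -2, -5, -25, 7, -35, 2, -31, 8, -28, -5,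
    -48, 13, -10, -9])
    (Qp := [-4, 11, -15, -8, -7, 28, -7, 2, 3, 22, 9, -7, 10, 8, 11, -13, 3, 1, 1, -10, -7, 2, -5, -6, -9, 7, -5,
    -2, -3, 4, 4, -2, 3, 2, 8, -2, 3, 1, 4, -1, -3, 3, -1, -1, -5, 0, -1, 0, -3, -2, 1, 0, -1, 0, 3, -1,
    1, 2, 2, 0, -1, 1, 1, 1, -2, 0, 0, 0, -1, -1, 1, -2, 0, 0, 0, -1, 0, 0, 0, 1, 0, 0, 0, 1, 0, 1, 0, 0,
    0, 0, 0, 0, 0, -1, 0, 0, 0, -1, 0, 1])
    (c := -35) (C := 48) (B := 36) (by norm_num) (by decide +kernel) rfl (by decide +kernel)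
    (by norm_num) (by norm_num) (by norm_num) hq hN

theorem small1_0 : smallB 1 0 37 = true := by decide +kernel

theorem rem2 {q : ℤ} (hq : 288 ≤ q) (hN : q ^ 29 ≤ pev bndL q - 2) :
    ¬ (pev bndL q - 2) ∣ 2 * pev (cycL [2, 8, 12, 14, 18, 20, 24, 30]) q := by
  have e : pev bndL q - 2 = pev (padd [-2] bndL) q := by
    rw [pev_padd]; simp [pev]; ring
  rw [e] at hN ⊢
  exact not_dvd_of_rem (P := cycL [2, 8, 12, 14, 18, 20, 24, 30]) (R0 := [186, 96, -288, -32, 80, 452, -382, 16, -88, 436, -62, -236, -166, 144, -16, -188, -206, -44, -286,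
    -160, -248, 68, -230, -176, -384, 208, -80, -60])
    (Qp := [92, 94, -96, -64, 8, 230, -76, 16, 12, 176, 24, -56, 52, 58, 44, -110, 12, 8, 4, -86, -28, 16, -20,
    -42, -36, 56, -20, -4, -12, 38, 16, -16, 12, 16, 32, -22, 12, 2, 16, -8, -12, 12, -4, -2, -20, 0, -4,
    0, -12, -4, 4, 0, -4, 0, 12, -2, 4, 4, 8, 0, -4, 2, 4, 2, -8, 0, 0, 0, -4, -2, 4, -4, 0, 0, 0, -2, 0,
    0, 0, 2, 0, 0, 0, 2, 0, 2, 0, 0, 0, 0, 0, 0, 0, -2, 0, 0, 0, -2, 0, 2])
    (c := -286) (C := 452) (B := 287) (by norm_num) (by decide +kernel) rfl (by decide +kernel)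
    (by norm_num) (by norm_num) (by norm_num) hq hN

theorem small2_0 : smallB 2 0 288 = true := by decide +kernel

theorem rem3 {q : ℤ} (hq : 972 ≤ q) (hN : q ^ 29 ≤ pev bndL q - 3) :
    ¬ (pev bndL q - 3) ∣ 3 * pev (cycL [2, 8, 12, 14, 18, 20, 24, 30]) q := by
  have e : pev bndL q - 3 = pev (padd [-3] bndL) q := by
    rw [pev_padd]; simp [pev]; ring
  rw [e] at hN ⊢
  exact not_dvd_of_rem (P := cycL [2, 8, 12, 14, 18, 20, 24, 30]) (R0 := [1839, 351, -1377, -297, 675, 2187, -1833, -99, -297, 2106, -348, -1341, -429, 504, -54, -1053, -699,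
    -369, -969, -990, -837, 288, -780, -981, -1296, 1053, -270, -225])
    (Qp := [612, 321, -351, -216, 153, 780, -351, 54, 27, 594, 9, -189, 162, 192, 99, -375, 27, 27, 9, -294, -63,
    54, -45, -138, -81, 189, -45, -6, -27, 132, 36, -54, 27, 54, 72, -78, 27, 3, 36, -27, -27, 33, -9,
    -3, -45, 0, -9, 0, -27, -6, 9, 0, -9, 0, 27, -3, 9, 6, 18, 0, -9, 3, 9, 3, -18, 0, 0, 0, -9, -3, 9,
    -6, 0, 0, 0, -3, 0, 0, 0, 3, 0, 0, 0, 3, 0, 3, 0, 0, 0, 0, 0, 0, 0, -3, 0, 0, 0, -3, 0, 3])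
    (c := -969) (C := 2187) (B := 971) (by norm_num) (by decide +kernel) rfl (by decide +kernel)
    (by norm_num) (by norm_num) (by norm_num) hq hN

theorem small3_0 : smallB 3 0 972 = true := by decide +kernel

theorem rem4 {q : ℤ} (hq : 2304 ≤ q) (hN : q ^ 29 ≤ pev bndL q - 4) :
    ¬ (pev bndL q - 4) ∣ 4 * pev (cycL [2, 8, 12, 14, 18, 20, 24, 30]) q := by
  have e : pev bndL q - 4 = pev (padd [-4] bndL) q := by
    rw [pev_padd]; simp [pev]; ring
  rw [e] at hN ⊢
  exact not_dvd_of_rem (P := cycL [2, 8, 12, 14, 18, 20, 24, 30]) (R0 := [8388, 960, -4608, -1088, 2944, 6800, -6140, -512, -704, 6544, -1276, -4400, -572, 1344, -128, -3440,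
    -1660, -1328, -2300, -3328, -1984, 848, -1852, -3200, -3072, 3328, -640, -624])
    (Qp := [2096, 764, -960, -512, 608, 1852, -1072, 128, 48, 1408, -96, -448, 400, 452, 176, -892, 48, 64, 16,
    -700, -112, 128, -80, -324, -144, 448, -80, -8, -48, 316, 64, -128, 48, 128, 128, -188, 48, 4, 64,
    -64, -48, 72, -16, -4, -80, 0, -16, 0, -48, -8, 16, 0, -16, 0, 48, -4, 16, 8, 32, 0, -16, 4, 16, 4,
    -32, 0, 0, 0, -16, -4, 16, -8, 0, 0, 0, -4, 0, 0, 0, 4, 0, 0, 0, 4, 0, 4, 0, 0, 0, 0, 0, 0, 0, -4, 0,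
    0, 0, -4, 0, 4])
    (c := -2300) (C := 8388) (B := 2303) (by norm_num) (by decide +kernel) rfl (by decide +kernel)
    (by norm_num) (by norm_num) (by norm_num) hq hN

theorem small4_0 : smallB 4 0 2000 = true := by decide +kernel

theorem small4_1 : smallB 4 2000 304 = true := by decide +kernel

theorem rem5 {q : ℤ} (hq : 4501 ≤ q) (hN : q ^ 29 ≤ pev bndL q - 5) :
    ¬ (pev bndL q - 5) ∣ 5 * pev (cycL [2, 8, 12, 14, 18, 20, 24, 30]) q := by
  have e : pev bndL q - 5 = pev (padd [-5] bndL) q := by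
    rw [pev_padd]; simp [pev]; ring
  rw [e] at hN ⊢
  exact not_dvd_of_rem (P := cycL [2, 8, 12, 14, 18, 20, 24, 30]) (R0 := [26505, 2175, -12375, -2825, 9125, 16475, -16495, -1475, -1375, 15850, -3620, -10925, 5, 3000, -250,
    -8525, -3245, -3425, -4495, -8350, -3875, 2000, -3620, -7925, -6000, 8125, -1250, -1425])
    (Qp := [5300, 1495, -2175, -1000, 1625, 3620, -2575, 250, 75, 2750, -375, -875, 850, 880, 275, -1745, 75,
    125, 25, -1370, -175, 250, -125, -630, -225, 875, -125, -10, -75, 620, 100, -250, 75, 250, 200, -370,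
    75, 5, 100, -125, -75, 135, -25, -5, -125, 0, -25, 0, -75, -10, 25, 0, -25, 0, 75, -5, 25, 10, 50, 0,
    -25, 5, 25, 5, -50, 0, 0, 0, -25, -5, 25, -10, 0, 0, 0, -5, 0, 0, 0, 5, 0, 0, 0, 5, 0, 5, 0, 0, 0, 0,
    0, 0, 0, -5, 0, 0, 0, -5, 0, 5])
    (c := -4495) (C := 26505) (B := 4500) (by norm_num) (by decide +kernel) rfl (by decide +kernel)
    (by norm_num) (by norm_num) (by norm_num) hq hN

theorem small5_0 : smallB 5 0 2000 = true := by decide +kernel

theorem small5_1 : smallB 5 2000 2000 = true := by decide +kernel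

theorem small5_2 : smallB 5 4000 501 = true := by decide +kernel

theorem rem6 {q : ℤ} (hq : 7779 ≤ q) (hN : q ^ 29 ≤ pev bndL q - 6) :
    ¬ (pev bndL q - 6) ∣ 6 * pev (cycL [2, 8, 12, 14, 18, 20, 24, 30]) q := by
  have e : pev bndL q - 6 = pev (padd [-6] bndL) q := by
    rw [pev_padd]; simp [pev]; ring
  rw [e] at hN ⊢
  exact not_dvd_of_rem (P := cycL [2, 8, 12, 14, 18, 20, 24, 30]) (R0 := [67182, 4320, -28512, -6048, 22896, 34020, -38010, -3312, -2376, 32724, -8634, -22860, 2382, 5904,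
    -432, -17820, -5610, -7308, -7770, -17568, -6696, 4068, -6258, -16560, -10368, 16848, -2160, -2844])
    (Qp := [11196, 2586, -4320, -1728, 3528, 6258, -5292, 432, 108, 4752, -936, -1512, 1620, 1518, 396, -3018,
    108, 216, 36, -2370, -252, 432, -180, -1086, -324, 1512, -180, -12, -108, 1074, 144, -432, 108, 432,
    288, -642, 108, 6, 144, -216, -108, 228, -36, -6, -180, 0, -36, 0, -108, -12, 36, 0, -36, 0, 108, -6,
    36, 12, 72, 0, -36, 6, 36, 6, -72, 0, 0, 0, -36, -6, 36, -12, 0, 0, 0, -6, 0, 0, 0, 6, 0, 0, 0, 6, 0,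
    6, 0, 0, 0, 0, 0, 0, 0, -6, 0, 0, 0, -6, 0, 6])
    (c := -7770) (C := 67182) (B := 7778) (by norm_num) (by decide +kernel) rfl (by decide +kernel)
    (by norm_num) (by norm_num) (by norm_num) hq hN

theorem small6_0 : smallB 6 0 2000 = true := by decide +kernel

theorem small6_1 : smallB 6 2000 2000 = true := by decide +kernel

theorem small6_2 : smallB 6 4000 2000 = true := by decide +kernel

theorem small6_3 : smallB 6 6000 1779 = true := by decide +kernel

theorem rem7 {q : ℤ} (hq : 12353 ≤ q) (hN : q ^ 29 ≤ pev bndL q - 7) :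
    ¬ (pev bndL q - 7) ∣ 7 * pev (cycL [2, 8, 12, 14, 18, 20, 24, 30]) q := by
  have e : pev bndL q - 7 = pev (padd [-7] bndL) q := by
    rw [pev_padd]; simp [pev]; ring
  rw [e] at hN ⊢
  exact not_dvd_of_rem (P := cycL [2, 8, 12, 14, 18, 20, 24, 30]) (R0 := [146811, 7791, -58653, -11417, 49735, 62867, -78197, -6419, -3773, 60466, -18172, -42581, 8239, 10584,
    -686, -33173, -8911, -13769, -12341, -32830, -10633, 7448, -9940, -30821, -16464, 31213, -3430,
    -5145])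
    (Qp := [20972, 4109, -7791, -2744, 6713, 9940, -9751, 686, 147, 7546, -1911, -2401, 2842, 2408, 539, -4795,
    147, 343, 49, -3766, -343, 686, -245, -1722, -441, 2401, -245, -14, -147, 1708, 196, -686, 147, 686,
    392, -1022, 147, 7, 196, -343, -147, 357, -49, -7, -245, 0, -49, 0, -147, -14, 49, 0, -49, 0, 147,
    -7, 49, 14, 98, 0, -49, 7, 49, 7, -98, 0, 0, 0, -49, -7, 49, -14, 0, 0, 0, -7, 0, 0, 0, 7, 0, 0, 0,
    7, 0, 7, 0, 0, 0, 0, 0, 0, 0, -7, 0, 0, 0, -7, 0, 7])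
    (c := -12341) (C := 146811) (B := 12352) (by norm_num) (by decide +kernel) rfl (by decide +kernel)
    (by norm_num) (by norm_num) (by norm_num) hq hN

theorem small7_0 : smallB 7 0 2000 = true := by decide +kernel

theorem small7_1 : smallB 7 2000 2000 = true := by decide +kernel

theorem small7_2 : smallB 7 4000 2000 = true := by decide +kernel

theorem small7_3 : smallB 7 6000 2000 = true := by decide +kernel

theorem small7_4 : smallB 7 8000 2000 = true := by decide +kernel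

theorem small7_5 : smallB 7 10000 2000 = true := by decide +kernel

theorem small7_6 : smallB 7 12000 353 = true := by decide +kernel

theorem rem8 {q : ℤ} (hq : 18440 ≤ q) (hN : q ^ 29 ≤ pev bndL q - 8) :
    ¬ (pev bndL q - 8) ∣ 8 * pev (cycL [2, 8, 12, 14, 18, 20, 24, 30]) q := by
  have e : pev bndL q - 8 = pev (padd [-8] bndL) q := by
    rw [pev_padd]; simp [pev]; ring
  rw [e] at hN ⊢
  exact not_dvd_of_rem (P := cycL [2, 8, 12, 14, 18, 20, 24, 30]) (R0 := [288264, 13056, -110592, -19712, 97280, 107072, -147448, -11264, -5632, 102976, -34808, -72896, 19976,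
    17664, -1024, -56768, -13304, -23744, -18424, -56320, -15872, 12608, -14840, -52736, -24576, 53248,
    -5120, -8640])
    (Qp := [36032, 6136, -13056, -4096, 11648, 14840, -16576, 1024, 192, 11264, -3456, -3584, 4672, 3592, 704,
    -7160, 192, 512, 64, -5624, -448, 1024, -320, -2568, -576, 3584, -320, -16, -192, 2552, 256, -1024,
    192, 1024, 512, -1528, 192, 8, 256, -512, -192, 528, -64, -8, -320, 0, -64, 0, -192, -16, 64, 0, -64,
    0, 192, -8, 64, 16, 128, 0, -64, 8, 64, 8, -128, 0, 0, 0, -64, -8, 64, -16, 0, 0, 0, -8, 0, 0, 0, 8,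
    0, 0, 0, 8, 0, 8, 0, 0, 0, 0, 0, 0, 0, -8, 0, 0, 0, -8, 0, 8])
    (c := -18424) (C := 288264) (B := 18439) (by norm_num) (by decide +kernel) rfl (by decide +kernel)
    (by norm_num) (by norm_num) (by norm_num) hq hN

theorem small8_0 : smallB 8 0 2000 = true := by decide +kernel

theorem small8_1 : smallB 8 2000 2000 = true := by decide +kernel

theorem small8_2 : smallB 8 4000 2000 = true := by decide +kernel

theorem small8_3 : smallB 8 6000 2000 = true := by decide +kernel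

theorem small8_4 : smallB 8 8000 2000 = true := by decide +kernel

theorem small8_5 : smallB 8 10000 2000 = true := by decide +kernel

theorem small8_6 : smallB 8 12000 2000 = true := by decide +kernel

theorem small8_7 : smallB 8 14000 2000 = true := by decide +kernel

theorem small8_8 : smallB 8 16000 2000 = true := by decide +kernel

theorem small8_9 : smallB 8 18000 440 = true := by decide +kernel

theorem smallB_spec {j lo len q : ℕ} (h : smallB j lo len = true) (h1 : lo ≤ q) (h2 : q < lo + len)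
    (hq : 2 ≤ q) : ¬ (bnd q - j ∣ j * ordP q) := by
  have := allBelow_spec h (q - lo) (by omega)
  rw [Nat.add_sub_cancel' h1] at this
  simp only [Bool.or_eq_true, blt_iff, Bool.not_eq_true'] at this
  intro hd
  rcases this with h | h
  · omega
  · rw [Nat.mod_eq_zero_of_dvd hd] at h; simp at h

/-- The values just below the bound. -/
theorem not_dvd_mul {q j : ℕ} (hq : 2 ≤ q) (hj1 : 1 ≤ j) (hj : j ≤ 8) :
    ¬ (bnd q - j ∣ j * ordP q) := by
  intro h
  have hb := pow_le_bnd hq hj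
  have hN : (q : ℤ) ^ 29 ≤ pev bndL q - j := by
    rw [bndL_eval]; have : ((q ^ 29 + j : ℕ) : ℤ) ≤ bnd q := by exact_mod_cast hb
    push_cast at this; linarith
  have hd : pev bndL q - (j : ℤ) ∣ (j : ℤ) * pev (cycL [2, 8, 12, 14, 18, 20, 24, 30]) q := by
    rw [bndL_eval, ordP_eval (by omega : 1 ≤ q), ← Nat.cast_sub (by omega), ← Nat.cast_mul]
    exact Int.natCast_dvd_natCast.2 h
  interval_cases j
  · rcases Nat.lt_or_ge q 37 with hl | hl
    · exact smallB_spec small1_0 (by omega) (by omega) hq h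
    · exact rem1 (q := (q : ℤ)) (by exact_mod_cast hl) (by simpa using hN) (by simpa using hd)
  · rcases Nat.lt_or_ge q 288 with hl | hl
    · exact smallB_spec small2_0 (by omega) (by omega) hq h
    · exact rem2 (q := (q : ℤ)) (by exact_mod_cast hl) (by simpa using hN) (by simpa using hd)
  · rcases Nat.lt_or_ge q 972 with hl | hl
    · exact smallB_spec small3_0 (by omega) (by omega) hq h
    · exact rem3 (q := (q : ℤ)) (by exact_mod_cast hl) (by simpa using hN) (by simpa using hd)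
  · rcases Nat.lt_or_ge q 2304 with hl | hl
    · rcases (by omega : (0 ≤ q ∧ q < 0 + 2000) ∨ (2000 ≤ q ∧ q < 2000 + 304)) with ⟨a, b⟩ | ⟨a, b⟩
      · exact smallB_spec small4_0 a b hq h
      · exact smallB_spec small4_1 a b hq h
    · exact rem4 (q := (q : ℤ)) (by exact_mod_cast hl) (by simpa using hN) (by simpa using hd)
  · rcases Nat.lt_or_ge q 4501 with hl | hl
    · rcases (by omega : (0 ≤ q ∧ q < 0 + 2000) ∨ (2000 ≤ q ∧ q < 2000 + 2000) ∨ (4000 ≤ q ∧ q < 4000 + 501)) with ⟨a, b⟩ | ⟨a, b⟩ | ⟨a, b⟩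
      · exact smallB_spec small5_0 a b hq h
      · exact smallB_spec small5_1 a b hq h
      · exact smallB_spec small5_2 a b hq h
    · exact rem5 (q := (q : ℤ)) (by exact_mod_cast hl) (by simpa using hN) (by simpa using hd)
  · rcases Nat.lt_or_ge q 7779 with hl | hl
    · rcases (by omega : (0 ≤ q ∧ q < 0 + 2000) ∨ (2000 ≤ q ∧ q < 2000 + 2000) ∨ (4000 ≤ q ∧ q < 4000 + 2000) ∨ (6000 ≤ q ∧ q < 6000 + 1779)) with ⟨a, b⟩ | ⟨a, b⟩ | ⟨a, b⟩ | ⟨a, b⟩
      · exact smallB_spec small6_0 a b hq h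
      · exact smallB_spec small6_1 a b hq h
      · exact smallB_spec small6_2 a b hq h
      · exact smallB_spec small6_3 a b hq h
    · exact rem6 (q := (q : ℤ)) (by exact_mod_cast hl) (by simpa using hN) (by simpa using hd)
  · rcases Nat.lt_or_ge q 12353 with hl | hl
    · rcases (by omega : (0 ≤ q ∧ q < 0 + 2000) ∨ (2000 ≤ q ∧ q < 2000 + 2000) ∨ (4000 ≤ q ∧ q < 4000 + 2000) ∨ (6000 ≤ q ∧ q < 6000 + 2000) ∨ (8000 ≤ q ∧ q < 8000 + 2000) ∨ (10000 ≤ q ∧ q < 10000 + 2000) ∨ (12000 ≤ q ∧ q < 12000 + 353)) with ⟨a, b⟩ | ⟨a, b⟩ | ⟨a, b⟩ | ⟨a, b⟩ | ⟨a, b⟩ | ⟨a, b⟩ | ⟨a, b⟩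
      · exact smallB_spec small7_0 a b hq h
      · exact smallB_spec small7_1 a b hq h
      · exact smallB_spec small7_2 a b hq h
      · exact smallB_spec small7_3 a b hq h
      · exact smallB_spec small7_4 a b hq h
      · exact smallB_spec small7_5 a b hq h
      · exact smallB_spec small7_6 a b hq h
    · exact rem7 (q := (q : ℤ)) (by exact_mod_cast hl) (by simpa using hN) (by simpa using hd)
  · rcases Nat.lt_or_ge q 18440 with hl | hl
    · rcases (by omega : (0 ≤ q ∧ q < 0 + 2000) ∨ (2000 ≤ q ∧ q < 2000 + 2000) ∨ (4000 ≤ q ∧ q < 4000 + 2000) ∨ (6000 ≤ q ∧ q < 6000 + 2000) ∨ (8000 ≤ q ∧ q < 8000 + 2000) ∨ (10000 ≤ q ∧ q < 10000 + 2000) ∨ (12000 ≤ q ∧ q < 12000 + 2000) ∨ (14000 ≤ q ∧ q < 14000 + 2000) ∨ (16000 ≤ q ∧ q < 16000 + 2000) ∨ (18000 ≤ q ∧ q < 18000 + 440)) with ⟨a, b⟩ | ⟨a, b⟩ | ⟨a, b⟩ | ⟨a, b⟩ | ⟨a, b⟩ | ⟨a, b⟩ | ⟨a, b⟩ | ⟨a, b⟩ | ⟨a, b⟩ | ⟨a, b⟩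
      · exact smallB_spec small8_0 a b hq h
      · exact smallB_spec small8_1 a b hq h
      · exact smallB_spec small8_2 a b hq h
      · exact smallB_spec small8_3 a b hq h
      · exact smallB_spec small8_4 a b hq h
      · exact smallB_spec small8_5 a b hq h
      · exact smallB_spec small8_6 a b hq h
      · exact smallB_spec small8_7 a b hq h
      · exact smallB_spec small8_8 a b hq h
      · exact smallB_spec small8_9 a b hq h
    · exact rem8 (q := (q : ℤ)) (by exact_mod_cast hl) (by simpa using hN) (by simpa using hd)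

theorem tiny : allBelow 9 (fun q => allBelow 9 fun j =>
    !(Nat.ble 2 q && Nat.ble q j) || 
      !(Nat.beq ((q ^ 120 * ordP q) % (bnd q - j)) 0)) = true := by decide +kernel

end CfsgLib.Known.LieDegree.E8
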