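/-
An element of order divisible by 31 centralising a long root element in characteristic two.
-/
import Mathlib
import Cfsg.Agent.Lib.Known.LieDegree.Laced

set_option autoImplicit false
set_option maxHeartbeats 1000000

namespace CfsgLib.Known.LieDegree

open Cfsg.Lie CfsgLib.Chev CfsgLib.Chev.Table

universe v

/-- A product of root elements moving a commuting set of root elements with period 31. -/
structure OData where
  z : ℕ
  bs : List ℕ
  word : List ℕ
  s : ℕ
  k : ℕ

/-- The roots occurring in a conjugate of a root element. -/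
def imgR (T : Tab) (d s : ℕ) : List ℕ :=
  match T.tg d s with
  | none => [s]
  | some k => [s, k]

/-- Insertion modulo two. -/
def insT (s : ℕ) (U : List ℕ) : List ℕ := if U.contains s then U.erase s else s :: U

/-- Reduction modulo two. -/
def normT (S : List ℕ) : List ℕ := S.foldr insT []

/-- Conjugation by one root element. -/
def stepT (T : Tab) (d : ℕ) (U : List ℕ) : List ℕ := normT (U.flatMap (imgR T d))

/-- Conjugation by the word. -/
def runT (T : Tab) (w U : List ℕ) : List ℕ := w.foldr (stepT T) U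

/-- Repeated conjugation. -/
def iterT (T : Tab) (w : List ℕ) : ℕ → List ℕ → List ℕ
  | 0, U => U
  | n + 1, U => runT T w (iterT T w n U)

/-- The checks. -/
def OData.checkB (T : Tab) (O : OData) : Bool :=
  Nat.blt O.z T.nroots && O.bs.all (fun r => Nat.blt r T.nroots) &&
  O.bs.all (fun r => O.bs.all fun s => Nat.beq (T.ent r s) 0 && !(s == T.neg r)) &&
  O.word.all (fun d => Nat.blt d T.nroots && Nat.beq (T.ent d O.z) 0 && !(O.z == T.neg d) &&
    O.bs.all (fun s => !(s == T.neg d) && (imgR T d s).all fun x => O.bs.contains x)) &&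
  O.bs.contains O.s && O.bs.contains O.k &&
  (runT T O.word [O.s]).isPerm [O.s, O.k] && (iterT T O.word 31 [O.s]).isPerm [O.s]

variable {D : ChevalleyDatum} {T : Tab} (L : LCtx.{v} D T) {K : Type v} [Field K]

/-- The product of the root elements with parameter one. -/
noncomputable def prodT (D : ChevalleyDatum) (K : Type v) [Field K] (U : List ℕ) : ↥(D.group K) :=
  (U.map fun r => X D r (1 : K)).prod

theorem prodT_cons (r : ℕ) (U : List ℕ) :
    prodT D K (r :: U) = X D r 1 * prodT D K U := by
  simp [prodT]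

theorem prodT_append (U U' : List ℕ) : prodT D K (U ++ U') = prodT D K U * prodT D K U' := by
  simp [prodT]

include L

/-- The checks give divisibility of the order of the centraliser. -/
theorem thirtyOne_dvd_centralizer [Finite K] {O : OData} (h : O.checkB T = true) (h2 : (2 : K) = 0) :
    31 ∣ Nat.card (Subgroup.centralizer ({X D O.z (1 : K)} : Set ↥(D.group K))) := by
  classical
  simp only [OData.checkB, Bool.and_eq_true, blt_iff, List.all_eq_true, List.contains_iff_mem,
    Bool.not_eq_true', beq_eq_false_iff_ne, List.isPerm_iff] at h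
  obtain ⟨⟨⟨⟨⟨⟨⟨hz, hbn⟩, hbc⟩, hw⟩, hs⟩, hk⟩, hrun⟩, hiter⟩ := h
  have hn := nroots_eq L.arrays
  have hsq : ∀ r, r < D.nroots → X D r (1 : K) * X D r 1 = 1 := fun r hr => by
    rw [← L.X_add hr, one_add_one_eq_two, h2, L.X_zero hr]
  have hcomm : ∀ r ∈ O.bs, ∀ s ∈ O.bs, Commute (X D r (1 : K)) (X D s 1) := fun r hr s hs =>
    L.X_commute (hn.symm ▸ hbn r hr) (hn.symm ▸ hbn s hs) (Nat.eq_of_beq_eq_true (hbc r hr s hs).1)
      (hbc r hr s hs).2 1 1
  have hperm : ∀ U U' : List ℕ, (∀ r ∈ U, r ∈ O.bs) → U.Perm U' → prodT D K U = prodT D K U' := by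
    intro U U' hU hp
    refine (hp.map _).prod_eq' ?_
    refine List.pairwise_map.2 (List.Pairwise.imp_of_mem (fun {a b} ha hb _ => ?_)
      (List.pairwise_of_forall fun (_ _ : ℕ) => trivial))
    exact hcomm a (hU a ha) b (hU b hb)
  have hins : ∀ s U, s ∈ O.bs → (∀ r ∈ U, r ∈ O.bs) →
      prodT D K (insT s U) = prodT D K (s :: U) ∧ ∀ r ∈ insT s U, r ∈ O.bs := by
    intro s U hs hU
    by_cases hm : s ∈ U
    · rw [insT, if_pos (by simpa using hm)]
      refine ⟨?_, fun r hr => hU r (List.mem_of_mem_erase hr)⟩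
      rw [prodT_cons s U, hperm U _ hU (List.perm_cons_erase hm), prodT_cons, ← mul_assoc,
        hsq s (hn.symm ▸ hbn s hs), one_mul]
    · rw [insT, if_neg (by simpa using hm)]
      exact ⟨rfl, List.forall_mem_cons.2 ⟨hs, hU⟩⟩
  have hnorm : ∀ S : List ℕ, (∀ r ∈ S, r ∈ O.bs) →
      prodT D K (normT S) = prodT D K S ∧ ∀ r ∈ normT S, r ∈ O.bs := by
    intro S
    induction S with
    | nil => exact fun _ => ⟨rfl, by simp [normT]⟩
    | cons s S ih =>
      intro hS
      obtain ⟨e, hm⟩ := ih fun r hr => hS r (List.mem_cons_of_mem _ hr)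
      obtain ⟨e', hm'⟩ := hins s (normT S) (hS s List.mem_cons_self) hm
      exact ⟨by rw [show normT (s :: S) = insT s (normT S) from rfl, e', prodT_cons, e, prodT_cons],
        hm'⟩
  have hstep : ∀ d ∈ O.word, ∀ U, (∀ r ∈ U, r ∈ O.bs) →
      X D d (1 : K) * prodT D K U * (X D d 1)⁻¹ = prodT D K (stepT T d U) ∧
      ∀ r ∈ stepT T d U, r ∈ O.bs := by
    intro d hd U hU
    obtain ⟨⟨⟨hdn', -⟩, -⟩, hdb⟩ := hw d hd
    have hdn : d < D.nroots := hn.symm ▸ hdn'
    have hflat : ∀ r ∈ U.flatMap (imgR T d), r ∈ O.bs := fun r hr => by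
      obtain ⟨s, hs, hr⟩ := List.mem_flatMap.1 hr
      exact (hdb s (hU s hs)).2 r hr
    obtain ⟨e, hm⟩ := hnorm _ hflat
    refine ⟨?_, hm⟩
    rw [stepT, e]
    clear e hm hflat
    induction U with
    | nil => simp [prodT]
    | cons s U ih =>
      rw [List.flatMap_cons, prodT_append, ← ih fun r hr => hU r (List.mem_cons_of_mem _ hr), prodT_cons]
      have hsb := hU s List.mem_cons_self
      have hsn : s < D.nroots := hn.symm ▸ hbn s hsb
      have key : X D d (1 : K) * X D s 1 * (X D d 1)⁻¹ = prodT D K (imgR T d s) := by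
        rcases hT : T.tg d s with _ | k
        · rw [L.X_conj_same hdn hsn (L.tg_none hT) (hdb s hsb).1]
          simp [imgR, hT, prodT]
        · obtain ⟨c, hc, -, hcj⟩ := L.X_conj (K := K) hdn hsn hT
          have hc1 : c = 1 := hc.elim id fun e => by
            rw [e, neg_eq_iff_eq_neg, eq_neg_iff_add_eq_zero, one_add_one_eq_two, h2]
          rw [hcj, hc1]
          simp [imgR, hT, prodT]
      rw [← key]
      group
  set g : ↥(D.group K) := prodT D K O.word with hg
  have hrunT : ∀ w : List ℕ, (∀ d ∈ w, d ∈ O.word) → ∀ U, (∀ r ∈ U, r ∈ O.bs) →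
      prodT D K w * prodT D K U * (prodT D K w)⁻¹ = prodT D K (runT T w U) ∧
      ∀ r ∈ runT T w U, r ∈ O.bs := by
    intro w
    induction w with
    | nil => exact fun _ U hU => ⟨by simp [prodT, runT], hU⟩
    | cons d w ih =>
      intro hw' U hU
      obtain ⟨e, hm⟩ := ih (fun x hx => hw' x (List.mem_cons_of_mem _ hx)) U hU
      obtain ⟨e', hm'⟩ := hstep d (hw' d List.mem_cons_self) _ hm
      refine ⟨?_, hm'⟩
      rw [show runT T (d :: w) U = stepT T d (runT T w U) from rfl, ← e', ← e, prodT_cons]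
      group
  set x : ↥(D.group K) := X D O.s 1 with hx
  have hsing : ∀ r ∈ [O.s], r ∈ O.bs := fun r hr => List.mem_singleton.1 hr ▸ hs
  have hpow : ∀ n, (MulAut.conj g)^[n] x = prodT D K (iterT T O.word n [O.s]) ∧
      ∀ r ∈ iterT T O.word n [O.s], r ∈ O.bs := by
    intro n
    induction n with
    | zero => exact ⟨by simp [iterT, prodT, hx], hsing⟩
    | succ n ih =>
      obtain ⟨e, hm⟩ := hrunT O.word (fun _ h => h) _ ih.2
      refine ⟨?_, hm⟩
      rw [Function.iterate_succ_apply', ih.1, MulAut.conj_apply]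
      exact e
  have h31 : Function.IsPeriodicPt (MulAut.conj g) 31 x := by
    show (MulAut.conj g)^[31] x = x
    rw [(hpow 31).1, hperm _ _ (hpow 31).2 hiter, prodT, List.map_singleton, List.prod_singleton]
  have hne : ¬ Function.IsFixedPt (MulAut.conj g) x := by
    intro he
    obtain ⟨e, hm⟩ := hrunT O.word (fun _ h => h) [O.s] hsing
    rw [show prodT D K [O.s] = x by simp [prodT, hx], hperm _ _ hm hrun, ← hg] at e
    rw [Function.IsFixedPt, MulAut.conj_apply, e] at he
    rw [show prodT D K [O.s, O.k] = x * X D O.k 1 by simp [prodT, hx]] at he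
    exact one_ne_zero (L.X_eq_one (hn.symm ▸ hbn _ hk) (mul_eq_left.1 he))
  haveI := Fact.mk (by norm_num : Nat.Prime 31)
  have hper : Function.IsPeriodicPt (MulAut.conj g) (orderOf g) x := by
    have e : ∀ n, (MulAut.conj g)^[n] x = g ^ n * x * (g ^ n)⁻¹ := fun n => by
      induction n with
      | zero => simp
      | succ n ih => rw [Function.iterate_succ_apply', ih, MulAut.conj_apply, pow_succ']; group
    show (MulAut.conj g)^[orderOf g] x = x
    rw [e, pow_orderOf_eq_one]
    group
  have hdvd : 31 ∣ orderOf g := by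
    rw [← Function.minimalPeriod_eq_prime h31 hne]
    exact hper.minimalPeriod_dvd
  have hmem : g ∈ Subgroup.centralizer ({X D O.z (1 : K)} : Set ↥(D.group K)) := by
    rw [hg, prodT]
    refine Subgroup.list_prod_mem _ fun y hy => ?_
    obtain ⟨d, hd, rfl⟩ := List.mem_map.1 hy
    obtain ⟨⟨⟨hdn, hdz⟩, hdne⟩, -⟩ := hw d hd
    rw [Subgroup.mem_centralizer_singleton_iff]
    exact (L.X_commute (hn.symm ▸ hdn) (hn.symm ▸ hz) (Nat.eq_of_beq_eq_true hdz) hdne 1 1).eq
  exact hdvd.trans (Subgroup.orderOf_dvd_natCard _ hmem)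

end CfsgLib.Known.LieDegree
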