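/-
The minimal degree of E₆(q).
-/
import Mathlib
import Cfsg.Agent.Lib.Known.LieDegree.ArithE6
import Cfsg.Agent.Lib.Known.LieDegree.Count
import Cfsg.Agent.Lib.Chev.Orders
import Cfsg.Agent.Lib.Chev.Perfect
import Cfsg.Agent.Lib.Char.Integral
import Cfsg.Agent.Lib.Known.LieDegree.Order31

set_option autoImplicit false
set_option maxRecDepth 20000
set_option maxHeartbeats 1000000

namespace CfsgLib.Known.LieDegree.E6

open Cfsg.Lie CfsgLib.Chev CfsgLib.Chev.Table

universe v

theorem total_chk : peqB (cert.totalL 6) bndL = true := by decide +kernel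

/-- The element of order divisible by 31. -/
def odata : OData where
  z := 71
  bs := [56, 57, 58, 59, 60]
  word := [43, 41, 35, 32, 27]
  s := 56
  k := 58

theorem odata_chk : odata.checkB DataE6.tab = true := by decide +kernel

/-- The two exceptional degrees do not occur. -/
theorem exception {F : Type v} [Field F] [Fintype F] {k : ℕ}
    (ρ : Representation ℂ ↥(chevE6.group F) (Fin k → ℂ)) [ρ.IsIrreducible]
    (hq : Fintype.card F = 2 ∨ Fintype.card F = 4) (h31 : 31 ∣ k)
    (htr : LinearMap.trace ℂ (Fin k → ℂ) (ρ (X chevE6 cert.heis.z (1 : F))) +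
      (Fintype.card F : ℂ) ^ (10 + 1) = k) : False := by
  letI := Fintype.ofFinite ↥(chevE6.group F)
  have h2 : (2 : F) = 0 := by
    have h0 := FiniteField.cast_card_eq_zero F
    rcases hq with h | h <;> rw [h] at h0 <;> push_cast at h0
    · exact h0
    · exact mul_self_eq_zero.1 (show (2 : F) * 2 = 0 by rw [← h0]; norm_num)
  have hC := thirtyOne_dvd_centralizer lctx odata_chk h2 (K := F)
  set x : ↥(chevE6.group F) := X chevE6 odata.z (1 : F) with hx
  set C := Subgroup.centralizer ({x} : Set ↥(chevE6.group F)) with hCdef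
  have hint := CfsgLib.Char.isIntegral_index_mul_div (CfsgLib.Char.isIrrCharacter_char ρ) x
  rw [ρ.char_one, Module.finrank_fin_fun] at hint
  have hk0 : 0 < k := by
    rw [← Module.finrank_fin_fun ℂ (n := k)]; exact CfsgLib.Char.finrank_pos_of_irreducible ρ
  set q := Fintype.card F
  have hchar : ρ.character x + (q : ℂ) ^ 11 = k := htr
  -- multiply the integrality by the degree
  have hmul : IsIntegral ℤ (((C.index * q ^ 11 : ℕ) : ℂ) / (k : ℂ)) := by
    have e : ((C.index * q ^ 11 : ℕ) : ℂ) / (k : ℂ) =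
        (C.index : ℂ) - (C.index : ℂ) * ρ.character x / k := by
      have : (k : ℂ) ≠ 0 := by exact_mod_cast hk0.ne'
      field_simp
      push_cast
      linear_combination (C.index : ℂ) * hchar
    rw [e]
    exact IsIntegral.sub (by simpa using (isIntegral_algebraMap (R := ℤ) (A := ℂ) (x := (C.index : ℤ)))) hint
  have hd : 31 ∣ C.index * q ^ 11 := h31.trans (CfsgLib.Char.dvd_of_isIntegral_div hk0.ne' hmul)
  have hidx : 31 ∣ C.index := ((by norm_num : Nat.Prime 31).dvd_mul.1 hd).resolve_right (by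
    rcases hq with h | h <;> rw [h] <;> decide +kernel)
  have hsq : 31 * 31 ∣ q ^ 36 * ordP q := by
    refine ((mul_dvd_mul hidx hC).trans (dvd_of_eq C.index_mul_card)).trans
      (Dvd.intro_left (Nat.gcd 3 (Nat.card F - 1)) ?_)
    rw [order_E6, Nat.card_eq_fintype_card]
    simp only [ordP, q]
  revert hsq
  rcases hq with h | h <;> rw [h] <;> decide +kernel

/-- The lower bound. -/
theorem le_dim_irr {F : Type v} [Field F] [Fintype F] {k : ℕ}
    (ρ : Representation ℂ ↥(chevE6.group F) (Fin k → ℂ)) (hirr : ρ.IsIrreducible) (hk : 2 ≤ k) :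
    bnd (Fintype.card F) ≤ k := by
  haveI : IsSimpleGroup ↥(chevE6.group F) :=
    (simple_of_perfect good_E6 linked_E6 (perfect_of_singleStep good_E6 singleStep_E6)).1
  have hb := dim_bound (L := lctx) ρ cert_chk (injective_of_simple ρ hirr hk)
  simp only [Module.finrank_fin_fun] at hb
  set q := Fintype.card F with hqdef
  have hq : 2 ≤ q := Fintype.one_lt_card
  have htot := Cert.total_eq total_chk (by omega : 1 ≤ q) (bndL_eval q)
  have hm : cert.heis.half.length = 10 := rfl
  rw [hm] at hb htot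
  rcases hb with h | ⟨h, htr⟩
  · refine le_trans ?_ h
    obtain ⟨a, ha⟩ : ∃ a, q = a + 2 := ⟨q - 2, by omega⟩
    have e : 2 * ((q - 1) * q ^ 10 + (q - 1) * q ^ (10 - 1)) = 2 * (q ^ 2 - 1) * q ^ 9 := by
      rw [ha, show a + 2 - 1 = a + 1 from rfl, show (a + 2) ^ 2 - 1 = (a + 1) * (a + 3) by
        rw [Nat.sub_eq_iff_eq_add (Nat.one_le_pow _ _ (by omega))]; ring]
      ring
    rw [e]
    have h2 : 3 * q ^ 2 ≤ 4 * (q ^ 2 - 1) := by
      have : 4 ≤ q ^ 2 := by nlinarith
      omega
    have h3 : 2 * bnd q ≤ 3 * q ^ 11 := by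
      have e : bnd q = q ^ 11 + q ^ 8 + q ^ 7 + q ^ 5 + q ^ 4 + q := by
        simp only [bnd]; ring
      have p : ∀ n, n ≤ 11 → q ^ n * 2 ^ (11 - n) ≤ q ^ 11 := fun n hn => by
        calc q ^ n * 2 ^ (11 - n) ≤ q ^ n * q ^ (11 - n) := Nat.mul_le_mul_left _ (Nat.pow_le_pow_left hq _)
          _ = q ^ 11 := by rw [← pow_add, Nat.add_sub_cancel' hn]
      have := p 8 (by norm_num); have := p 7 (by norm_num); have := p 5 (by norm_num)
      have := p 4 (by norm_num); have := p 1 (by norm_num)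
      norm_num at *
      omega
    have : q ^ 11 = q ^ 2 * q ^ 9 := pow_add q 2 9
    have : 3 * q ^ 11 ≤ 4 * (q ^ 2 - 1) * q ^ 9 := by
      rw [this, ← mul_assoc]; exact Nat.mul_le_mul_right _ h2
    have e4 : 4 * (q ^ 2 - 1) * q ^ 9 = 2 * (2 * (q ^ 2 - 1) * q ^ 9) := by ring
    omega
  by_contra hlt
  obtain ⟨j, hj1, hj6, hkj⟩ : ∃ j, 1 ≤ j ∧ j ≤ 6 ∧ k = bnd q - j :=
    ⟨bnd q - k, by omega, by omega, by omega⟩
  haveI := hirr
  letI := Fintype.ofFinite ↥(chevE6.group F)
  have hdvd : k ∣ q ^ 36 * ordP q := by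
    have h1 := CfsgLib.Char.degree_dvd_card' ρ
    rw [Module.finrank_fin_fun] at h1
    refine h1.trans (Dvd.intro_left (Nat.gcd 3 (Nat.card F - 1)) ?_)
    rw [order_E6, Nat.card_eq_fintype_card]
    simp only [ordP, hqdef]
  rcases Nat.lt_or_ge j q with hjq | hjq
  · refine not_dvd_mul hq hj1 hj6 (hkj ▸ dvd_mul_of_dvd_pow_mul (FiniteField.isPrimePow_card F) hj1 hjq ?_ hdvd)
    rw [hkj, Nat.sub_add_cancel (by omega)]
    exact (dvd_mul_right q _).mul_right _
  · have := allBelow_spec (allBelow_spec tiny q (by omega)) j (by omega)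
    simp only [Bool.or_eq_true, Bool.not_eq_true', Bool.and_eq_false_iff, ← hkj] at this
    rcases this with ((h | h) | hex) | h
    · rw [Nat.ble_eq_true_of_le hq] at h; simp at h
    · rw [Nat.ble_eq_true_of_le hjq] at h; simp at h
    · simp only [Bool.and_eq_true, Nat.beq_eq] at hex
      refine exception ρ (hex.imp And.left And.left) ?_ htr
      rw [hkj]
      rcases hex with ⟨a, b⟩ | ⟨a, b⟩ <;> rw [a, b] <;> decide +kernel
    · rw [Nat.mod_eq_zero_of_dvd hdvd] at h; simp at h

end CfsgLib.Known.LieDegree.E6
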