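/-
The minimal degree of E₈(q).
-/
import Mathlib
import Cfsg.Agent.Lib.Known.LieDegree.ArithE8
import Cfsg.Agent.Lib.Known.LieDegree.Count
import Cfsg.Agent.Lib.Chev.Orders
import Cfsg.Agent.Lib.Chev.Perfect
import Cfsg.Agent.Lib.Char.Integral

set_option autoImplicit false
set_option maxRecDepth 20000
set_option maxHeartbeats 1000000

namespace CfsgLib.Known.LieDegree.E8

open Cfsg.Lie CfsgLib.Chev CfsgLib.Chev.Table

universe v

theorem total_chk : peqB (cert.totalL 8) bndL = true := by decide +kernel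

/-- The lower bound. -/
theorem le_dim_irr {F : Type v} [Field F] [Fintype F] {k : ℕ}
    (ρ : Representation ℂ ↥(chevE8.group F) (Fin k → ℂ)) (hirr : ρ.IsIrreducible) (hk : 2 ≤ k) :
    bnd (Fintype.card F) ≤ k := by
  haveI : IsSimpleGroup ↥(chevE8.group F) :=
    (simple_of_perfect good_E8 linked_E8 (perfect_of_singleStep good_E8 singleStep_E8)).1
  have hb := dim_bound (L := lctx) ρ cert_chk (injective_of_simple ρ hirr hk)
  simp only [Module.finrank_fin_fun] at hb
  set q := Fintype.card F with hqdef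
  have hq : 2 ≤ q := Fintype.one_lt_card
  have htot := Cert.total_eq total_chk (by omega : 1 ≤ q) (bndL_eval q)
  have hm : cert.heis.half.length = 28 := rfl
  rw [hm] at hb htot
  rcases hb with h | ⟨h, -⟩
  · refine le_trans ?_ h
    obtain ⟨a, ha⟩ : ∃ a, q = a + 2 := ⟨q - 2, by omega⟩
    have e : 2 * ((q - 1) * q ^ 28 + (q - 1) * q ^ (28 - 1)) = 2 * (q ^ 2 - 1) * q ^ 27 := by
      rw [ha, show a + 2 - 1 = a + 1 from rfl, show (a + 2) ^ 2 - 1 = (a + 1) * (a + 3) by
        rw [Nat.sub_eq_iff_eq_add (Nat.one_le_pow _ _ (by omega))]; ring]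
      ring
    rw [e]
    have h2 : 3 * q ^ 2 ≤ 4 * (q ^ 2 - 1) := by
      have : 4 ≤ q ^ 2 := by nlinarith
      omega
    have h3 : 2 * bnd q ≤ 3 * q ^ 29 := by
      have e : bnd q = q ^ 29 + q ^ 23 + q ^ 19 + q ^ 17 + q ^ 13 + q ^ 11 + q ^ 7 + q := by
        simp only [bnd]; ring
      have p : ∀ n, n ≤ 23 → q ^ n * 2 ^ 6 ≤ q ^ 29 := fun n hn => by
        calc q ^ n * 2 ^ 6 ≤ q ^ 23 * q ^ 6 := Nat.mul_le_mul (Nat.pow_le_pow_right (by omega) hn)
              (Nat.pow_le_pow_left hq 6)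
          _ = q ^ 29 := (pow_add q 23 6).symm
      have := p 23 le_rfl; have := p 19 (by norm_num); have := p 17 (by norm_num)
      have := p 13 (by norm_num); have := p 11 (by norm_num); have := p 7 (by norm_num)
      have := p 1 (by norm_num)
      rw [pow_one] at this
      omega
    have : q ^ 29 = q ^ 2 * q ^ 27 := pow_add q 2 27
    have : 3 * q ^ 29 ≤ 4 * (q ^ 2 - 1) * q ^ 27 := by
      rw [this, ← mul_assoc]; exact Nat.mul_le_mul_right _ h2
    have e4 : 4 * (q ^ 2 - 1) * q ^ 27 = 2 * (2 * (q ^ 2 - 1) * q ^ 27) := by ring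
    omega
  by_contra hlt
  obtain ⟨j, hj1, hj8, hkj⟩ : ∃ j, 1 ≤ j ∧ j ≤ 8 ∧ k = bnd q - j :=
    ⟨bnd q - k, by omega, by omega, by omega⟩
  haveI := hirr
  letI := Fintype.ofFinite ↥(chevE8.group F)
  have hdvd : k ∣ q ^ 120 * ordP q := by
    have h1 := CfsgLib.Char.degree_dvd_card' ρ
    rw [Module.finrank_fin_fun] at h1
    refine h1.trans (dvd_of_eq ?_)
    rw [← one_mul (Nat.card _), order_E8, Nat.card_eq_fintype_card]
    simp only [ordP, hqdef]
  rcases Nat.lt_or_ge j q with hjq | hjq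
  · refine not_dvd_mul hq hj1 hj8 (hkj ▸ dvd_mul_of_dvd_pow_mul (FiniteField.isPrimePow_card F) hj1 hjq ?_ hdvd)
    rw [hkj, Nat.sub_add_cancel (by omega)]
    exact ((dvd_mul_right q _).mul_right _).mul_right _
  · have := allBelow_spec (allBelow_spec tiny q (by omega)) j (by omega)
    simp only [Bool.or_eq_true, Bool.not_eq_true', Bool.and_eq_false_iff, ← hkj] at this
    rcases this with (h | h) | h
    · rw [Nat.ble_eq_true_of_le hq] at h; simp at h
    · rw [Nat.ble_eq_true_of_le hjq] at h; simp at h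
    · rw [Nat.mod_eq_zero_of_dvd hdvd] at h; simp at h

end CfsgLib.Known.LieDegree.E8
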